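import Cfsg.Agent.Sp4Pres.Hyp

set_option autoImplicit false

/-!
# S2293 piece R0 (helper9): the abstract rank-2 (type `B₂`) Bruhat count

`cnt_cell B x n l` is the product of double cosets `C(s_1) ⋯ C(s_k)` (`l` = the word, read from the
tail of the list to its head), written as `B n_{s_1} X_{s_1} ⋯ n_{s_k} X_{s_k}`.
-/

namespace Cfsg.Agent.Sp4Pres

open Cfsg.Agent.SL2Pres

section cells

variable {G : Type*} [Group G] {F : Type*} (B : Subgroup G) (x : Bool → F → G) (n : Bool → G)

/-- the cell of a (reversed) word: `cell (s :: l) = cell l * n s * X s`. -/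
def cnt_cell : List Bool → Set G
  | [] => (B : Set G)
  | s :: l => {g | ∃ g' ∈ cnt_cell l, ∃ c, g = g' * n s * x s c}

/-- the product of the `n s` along a (reversed) word. -/
def cnt_prod : List Bool → G
  | [] => 1
  | s :: l => cnt_prod l * n s

/-- the double coset `B * cnt_prod l * B`. -/
def cnt_dc (l : List Bool) : Set G := {g | ∃ b₁ ∈ B, ∃ b₂ ∈ B, g = b₁ * cnt_prod n l * b₂}

variable {B x n}

theorem cnt_cell_nil : cnt_cell B x n [] = (B : Set G) := rfl

theorem cnt_mem_cell_cons {s : Bool} {l : List Bool} {g : G} :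
    g ∈ cnt_cell B x n (s :: l) ↔ ∃ g' ∈ cnt_cell B x n l, ∃ c, g = g' * n s * x s c := Iff.rfl

/-- left `B`-stability -/
theorem cnt_left (l : List Bool) {b g : G} (hb : b ∈ B) (hg : g ∈ cnt_cell B x n l) :
    b * g ∈ cnt_cell B x n l := by
  induction l generalizing g with
  | nil => exact B.mul_mem hb hg
  | cons s l ih =>
    obtain ⟨g', hg', c, rfl⟩ := hg
    exact ⟨b * g', ih hg', c, by group⟩

variable (hx : ∀ s c, x s c ∈ B)
  (hi : ∀ s, ∀ b ∈ B, ∃ b' ∈ B, ∃ c, n s * b = b' * n s * x s c)

include hx hi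

/-- right `B`-stability -/
theorem cnt_right (l : List Bool) {b g : G} (hb : b ∈ B) (hg : g ∈ cnt_cell B x n l) :
    g * b ∈ cnt_cell B x n l := by
  induction l generalizing g b with
  | nil => exact B.mul_mem hg hb
  | cons s l ih =>
    obtain ⟨g', hg', c, rfl⟩ := hg
    obtain ⟨b', hb', c', hc'⟩ := hi s (x s c * b) (B.mul_mem (hx s c) hb)
    refine ⟨g' * b', ih hb' hg', c', ?_⟩
    calc g' * n s * x s c * b = g' * (n s * (x s c * b)) := by group
      _ = g' * (b' * n s * x s c') := by rw [hc']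
      _ = g' * b' * n s * x s c' := by group

/-- `cell l * n s ⊆ cell (s :: l)` -/
theorem cnt_mul_n (l : List Bool) (s : Bool) {g : G} (hg : g ∈ cnt_cell B x n l) :
    g * n s ∈ cnt_cell B x n (s :: l) := by
  obtain ⟨b', hb', c, hc⟩ := hi s 1 B.one_mem
  refine ⟨g * b', cnt_right hx hi l hb' hg, c, ?_⟩
  calc g * n s = g * (n s * 1) := by group
    _ = g * (b' * n s * x s c) := by rw [hc]
    _ = g * b' * n s * x s c := by group

/-- `cnt_prod l ∈ cell l` -/
theorem cnt_prod_mem (l : List Bool) : cnt_prod n l ∈ cnt_cell B x n l := by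
  induction l with
  | nil => exact B.one_mem
  | cons s l ih => exact cnt_mul_n hx hi l s ih

/-- the double coset of the product is contained in the cell -/
theorem cnt_dc_subset (l : List Bool) : cnt_dc B n l ⊆ cnt_cell B x n l := by
  rintro g ⟨b₁, hb₁, b₂, hb₂, rfl⟩
  exact cnt_right hx hi l hb₂ (cnt_left l hb₁ (cnt_prod_mem hx hi l))

/-- `C(s) C(s) ⊆ B ∪ C(s)`, inside a word -/
theorem cnt_square
    (hii : ∀ s c, n s * x s c * n s ∈ B ∨ ∃ b ∈ B, ∃ b' ∈ B, n s * x s c * n s = b * n s * b')
    (l : List Bool) (s : Bool) {g : G} (hg : g ∈ cnt_cell B x n (s :: s :: l)) :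
    g ∈ cnt_cell B x n l ∨ g ∈ cnt_cell B x n (s :: l) := by
  obtain ⟨g₁, hg₁, c', rfl⟩ := hg
  obtain ⟨g', hg', c, rfl⟩ := hg₁
  rcases hii s c with h1 | ⟨b, hb, b', hb', h2⟩
  · left
    have e : g' * n s * x s c * n s * x s c' = g' * ((n s * x s c * n s) * x s c') := by group
    rw [e]
    exact cnt_right hx hi l (B.mul_mem h1 (hx s c')) hg'
  · right
    have e : g' * n s * x s c * n s * x s c' = (g' * b) * n s * (b' * x s c') := by
      calc g' * n s * x s c * n s * x s c' = g' * (n s * x s c * n s) * x s c' := by group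
        _ = g' * (b * n s * b') * x s c' := by rw [h2]
        _ = (g' * b) * n s * (b' * x s c') := by group
    rw [e]
    exact cnt_right hx hi (s :: l) (B.mul_mem hb' (hx s c'))
      (cnt_mul_n hx hi l s (cnt_right hx hi l hb hg'))

omit hi in
/-- a reduced word gives a single double coset -/
theorem cnt_cell_subset_dc
    (hi' : ∀ s, ∀ b ∈ B, ∃ b' ∈ B, ∃ c, b * n s = x s c * n s * b')
    (l : List Bool) (s : Bool) (hl : cnt_cell B x n l ⊆ cnt_dc B n l)
    (hconj : ∀ c, cnt_prod n l * x s c * (cnt_prod n l)⁻¹ ∈ B) :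
    cnt_cell B x n (s :: l) ⊆ cnt_dc B n (s :: l) := by
  rintro g ⟨g', hg', c, rfl⟩
  obtain ⟨b₁, hb₁, b₂, hb₂, rfl⟩ := hl hg'
  obtain ⟨b', hb', c', hc'⟩ := hi' s b₂ hb₂
  refine ⟨b₁ * (cnt_prod n l * x s c' * (cnt_prod n l)⁻¹), B.mul_mem hb₁ (hconj c'),
    b' * x s c, B.mul_mem hb' (hx s c), ?_⟩
  show b₁ * cnt_prod n l * b₂ * n s * x s c =
    b₁ * (cnt_prod n l * x s c' * (cnt_prod n l)⁻¹) * (cnt_prod n l * n s) * (b' * x s c)
  calc b₁ * cnt_prod n l * b₂ * n s * x s c = b₁ * cnt_prod n l * (b₂ * n s) * x s c := by group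
    _ = b₁ * cnt_prod n l * (x s c' * n s * b') * x s c := by rw [hc']
    _ = b₁ * (cnt_prod n l * x s c' * (cnt_prod n l)⁻¹) * (cnt_prod n l * n s) * (b' * x s c) := by
      group

omit hx hi in
/-- cardinality of a cell -/
theorem cnt_card [Fintype F] [Finite B] (l : List Bool) :
    (cnt_cell B x n l).Finite ∧ (cnt_cell B x n l).ncard ≤ Nat.card B * Fintype.card F ^ l.length := by
  induction l with
  | nil =>
    have hB : (B : Set G).Finite := Set.finite_coe_iff.mp (inferInstanceAs (Finite B))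
    refine ⟨hB, ?_⟩
    rw [List.length_nil, pow_zero, mul_one]
    exact le_of_eq (Nat.card_coe_set_eq (B : Set G)).symm
  | cons s l ih =>
    have himg : cnt_cell B x n (s :: l) =
        (fun p : G × F => p.1 * n s * x s p.2) '' (cnt_cell B x n l ×ˢ (Set.univ : Set F)) := by
      ext g
      constructor
      · rintro ⟨g', hg', c, rfl⟩
        exact ⟨(g', c), ⟨hg', Set.mem_univ _⟩, rfl⟩
      · rintro ⟨⟨g', c⟩, ⟨hg', _⟩, rfl⟩
        exact ⟨g', hg', c, rfl⟩
    have hfin : (cnt_cell B x n l ×ˢ (Set.univ : Set F)).Finite := ih.1.prod Set.finite_univ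
    refine ⟨himg ▸ hfin.image _, ?_⟩
    rw [himg]
    calc ((fun p : G × F => p.1 * n s * x s p.2) '' (cnt_cell B x n l ×ˢ (Set.univ : Set F))).ncard
        ≤ (cnt_cell B x n l ×ˢ (Set.univ : Set F)).ncard := Set.ncard_image_le hfin
      _ = (cnt_cell B x n l).ncard * (Set.univ : Set F).ncard := Set.ncard_prod
      _ = (cnt_cell B x n l).ncard * Fintype.card F := by
        rw [Set.ncard_univ, Nat.card_eq_fintype_card]
      _ ≤ Nat.card B * Fintype.card F ^ l.length * Fintype.card F :=
        Nat.mul_le_mul_right _ ih.2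
      _ = Nat.card B * Fintype.card F ^ (s :: l).length := by
        rw [List.length_cons, pow_succ, mul_assoc]

end cells

theorem rank2_count {G : Type*} [Group G] {F : Type*} [Fintype F] (B : Subgroup G) [Finite B]
    (xa xb : F → G) (na nb : G)
    (hxa : ∀ c, xa c ∈ B) (hxb : ∀ c, xb c ∈ B)
    (hna2 : na * na ∈ B) (hnb2 : nb * nb ∈ B)
    (ia : ∀ b ∈ B, ∃ b' ∈ B, ∃ c, na * b = b' * na * xa c)
    (ia' : ∀ b ∈ B, ∃ b' ∈ B, ∃ c, b * na = xa c * na * b')
    (ib : ∀ b ∈ B, ∃ b' ∈ B, ∃ c, nb * b = b' * nb * xb c)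
    (ib' : ∀ b ∈ B, ∃ b' ∈ B, ∃ c, b * nb = xb c * nb * b')
    (iia : ∀ c, na * xa c * na ∈ B ∨ ∃ b ∈ B, ∃ b' ∈ B, na * xa c * na = b * na * b')
    (iib : ∀ c, nb * xb c * nb ∈ B ∨ ∃ b ∈ B, ∃ b' ∈ B, nb * xb c * nb = b * nb * b')
    (h1a : ∀ c, na * xb c * na⁻¹ ∈ B) (h1b : ∀ c, nb * xa c * nb⁻¹ ∈ B)
    (h2a : ∀ c, (na * nb) * xa c * (na * nb)⁻¹ ∈ B)
    (h2b : ∀ c, (nb * na) * xb c * (nb * na)⁻¹ ∈ B)
    (h3a : ∀ c, (na * nb * na) * xb c * (na * nb * na)⁻¹ ∈ B)
    (h3b : ∀ c, (nb * na * nb) * xa c * (nb * na * nb)⁻¹ ∈ B)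
    (hbraid : ∃ b ∈ B, na * nb * na * nb = nb * na * nb * na * b)
    (hgen : Subgroup.closure ((B : Set G) ∪ {na, nb}) = ⊤) :
    Finite G ∧ Nat.card G ≤ Nat.card B *
      (1 + 2 * Fintype.card F + 2 * Fintype.card F ^ 2 + 2 * Fintype.card F ^ 3 +
        Fintype.card F ^ 4) := by
  classical
  -- `false` is the letter `a`, `true` the letter `b`
  let x : Bool → F → G := fun s => cond s xb xa
  let n : Bool → G := fun s => cond s nb na
  have hx : ∀ s c, x s c ∈ B := by
    intro s c
    cases s
    · exact hxa c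
    · exact hxb c
  have hi : ∀ s, ∀ b ∈ B, ∃ b' ∈ B, ∃ c, n s * b = b' * n s * x s c := by
    intro s
    cases s
    · exact ia
    · exact ib
  have hi' : ∀ s, ∀ b ∈ B, ∃ b' ∈ B, ∃ c, b * n s = x s c * n s * b' := by
    intro s
    cases s
    · exact ia'
    · exact ib'
  have hii : ∀ s c, n s * x s c * n s ∈ B ∨
      ∃ b ∈ B, ∃ b' ∈ B, n s * x s c * n s = b * n s * b' := by
    intro s
    cases s
    · exact iia
    · exact iib
  have hn2 : ∀ s, n s * n s ∈ B := by
    intro s
    cases s
    · exact hna2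
    · exact hnb2
  -- single double cosets
  have d0 : cnt_cell B x n [] ⊆ cnt_dc B n [] := fun g hg =>
    ⟨g, hg, 1, B.one_mem, by simp [cnt_prod]⟩
  have da : cnt_cell B x n [false] ⊆ cnt_dc B n [false] :=
    cnt_cell_subset_dc hx hi' [] false d0 (by
      intro c
      show 1 * xa c * 1⁻¹ ∈ B
      rw [one_mul, inv_one, mul_one]
      exact hxa c)
  have db : cnt_cell B x n [true] ⊆ cnt_dc B n [true] :=
    cnt_cell_subset_dc hx hi' [] true d0 (by
      intro c
      show 1 * xb c * 1⁻¹ ∈ B
      rw [one_mul, inv_one, mul_one]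
      exact hxb c)
  have dab : cnt_cell B x n [true, false] ⊆ cnt_dc B n [true, false] :=
    cnt_cell_subset_dc hx hi' [false] true da (by
      intro c
      show (1 * na) * xb c * (1 * na)⁻¹ ∈ B
      rw [one_mul]
      exact h1a c)
  have dba : cnt_cell B x n [false, true] ⊆ cnt_dc B n [false, true] :=
    cnt_cell_subset_dc hx hi' [true] false db (by
      intro c
      show (1 * nb) * xa c * (1 * nb)⁻¹ ∈ B
      rw [one_mul]
      exact h1b c)
  have daba : cnt_cell B x n [false, true, false] ⊆ cnt_dc B n [false, true, false] :=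
    cnt_cell_subset_dc hx hi' [true, false] false dab (by
      intro c
      show (1 * na * nb) * xa c * (1 * na * nb)⁻¹ ∈ B
      rw [one_mul]
      exact h2a c)
  have dbab : cnt_cell B x n [true, false, true] ⊆ cnt_dc B n [true, false, true] :=
    cnt_cell_subset_dc hx hi' [false, true] true dba (by
      intro c
      show (1 * nb * na) * xb c * (1 * nb * na)⁻¹ ∈ B
      rw [one_mul]
      exact h2b c)
  have dabab : cnt_cell B x n [true, false, true, false] ⊆
      cnt_dc B n [true, false, true, false] :=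
    cnt_cell_subset_dc hx hi' [false, true, false] true daba (by
      intro c
      show (1 * na * nb * na) * xb c * (1 * na * nb * na)⁻¹ ∈ B
      rw [one_mul]
      exact h3a c)
  have dbaba : cnt_cell B x n [false, true, false, true] ⊆
      cnt_dc B n [false, true, false, true] :=
    cnt_cell_subset_dc hx hi' [true, false, true] false dbab (by
      intro c
      show (1 * nb * na * nb) * xa c * (1 * nb * na * nb)⁻¹ ∈ B
      rw [one_mul]
      exact h3b c)
  -- the braid relation identifies the two longest cells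
  obtain ⟨b₀, hb₀, hbr⟩ := hbraid
  have pabab : cnt_prod n [true, false, true, false] = na * nb * na * nb := by
    show 1 * na * nb * na * nb = _
    rw [one_mul]
  have pbaba : cnt_prod n [false, true, false, true] = nb * na * nb * na := by
    show 1 * nb * na * nb * na = _
    rw [one_mul]
  have e1 : cnt_cell B x n [true, false, true, false] ⊆
      cnt_cell B x n [false, true, false, true] := by
    intro g hg
    obtain ⟨b₁, hb₁, b₂, hb₂, rfl⟩ := dabab hg
    apply cnt_dc_subset hx hi
    refine ⟨b₁, hb₁, b₀ * b₂, B.mul_mem hb₀ hb₂, ?_⟩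
    rw [pabab, pbaba, hbr]
    group
  have e2 : cnt_cell B x n [false, true, false, true] ⊆
      cnt_cell B x n [true, false, true, false] := by
    intro g hg
    obtain ⟨b₁, hb₁, b₂, hb₂, rfl⟩ := dbaba hg
    apply cnt_dc_subset hx hi
    refine ⟨b₁, hb₁, b₀⁻¹ * b₂, B.mul_mem (B.inv_mem hb₀) hb₂, ?_⟩
    rw [pabab, pbaba, hbr]
    group
  -- the union of the eight cells
  set Y : Set G := cnt_cell B x n [] ∪ cnt_cell B x n [false] ∪ cnt_cell B x n [true] ∪
    cnt_cell B x n [true, false] ∪ cnt_cell B x n [false, true] ∪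
    cnt_cell B x n [false, true, false] ∪ cnt_cell B x n [true, false, true] ∪
    cnt_cell B x n [true, false, true, false] with hY
  have hmemY : ∀ g, g ∈ Y ↔ g ∈ cnt_cell B x n [] ∨ g ∈ cnt_cell B x n [false] ∨
      g ∈ cnt_cell B x n [true] ∨ g ∈ cnt_cell B x n [true, false] ∨
      g ∈ cnt_cell B x n [false, true] ∨ g ∈ cnt_cell B x n [false, true, false] ∨
      g ∈ cnt_cell B x n [true, false, true] ∨ g ∈ cnt_cell B x n [true, false, true, false] := by
    intro g
    simp only [hY, Set.mem_union, or_assoc]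
  have hYB : ∀ y ∈ Y, ∀ b ∈ B, y * b ∈ Y := by
    intro y hy b hb
    rw [hmemY] at hy ⊢
    rcases hy with h | h | h | h | h | h | h | h
    · exact Or.inl (cnt_right hx hi _ hb h)
    · exact Or.inr (Or.inl (cnt_right hx hi _ hb h))
    · exact Or.inr (Or.inr (Or.inl (cnt_right hx hi _ hb h)))
    · exact Or.inr (Or.inr (Or.inr (Or.inl (cnt_right hx hi _ hb h))))
    · exact Or.inr (Or.inr (Or.inr (Or.inr (Or.inl (cnt_right hx hi _ hb h)))))
    · exact Or.inr (Or.inr (Or.inr (Or.inr (Or.inr (Or.inl (cnt_right hx hi _ hb h))))))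
    · exact Or.inr (Or.inr (Or.inr (Or.inr (Or.inr (Or.inr (Or.inl (cnt_right hx hi _ hb h)))))))
    · exact Or.inr (Or.inr (Or.inr (Or.inr (Or.inr (Or.inr (Or.inr (cnt_right hx hi _ hb h)))))))
  have hYa : ∀ y ∈ Y, y * na ∈ Y := by
    intro y hy
    rw [hmemY] at hy ⊢
    rcases hy with h | h | h | h | h | h | h | h
    · -- 1 · a = a
      exact Or.inr (Or.inl (cnt_mul_n hx hi [] false h))
    · -- a · a
      rcases cnt_square hx hi hii [] false (cnt_mul_n hx hi [false] false h) with h' | h'
      · exact Or.inl h'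
      · exact Or.inr (Or.inl h')
    · -- b · a = ba
      exact Or.inr (Or.inr (Or.inr (Or.inr (Or.inl (cnt_mul_n hx hi [true] false h)))))
    · -- ab · a = aba
      exact Or.inr (Or.inr (Or.inr (Or.inr (Or.inr (Or.inl
        (cnt_mul_n hx hi [true, false] false h))))))
    · -- ba · a
      rcases cnt_square hx hi hii [true] false (cnt_mul_n hx hi [false, true] false h) with h' | h'
      · exact Or.inr (Or.inr (Or.inl h'))
      · exact Or.inr (Or.inr (Or.inr (Or.inr (Or.inl h'))))
    · -- aba · a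
      rcases cnt_square hx hi hii [true, false] false
        (cnt_mul_n hx hi [false, true, false] false h) with h' | h'
      · exact Or.inr (Or.inr (Or.inr (Or.inl h')))
      · exact Or.inr (Or.inr (Or.inr (Or.inr (Or.inr (Or.inl h')))))
    · -- bab · a = baba = abab
      exact Or.inr (Or.inr (Or.inr (Or.inr (Or.inr (Or.inr (Or.inr
        (e2 (cnt_mul_n hx hi [true, false, true] false h))))))))
    · -- abab · a = baba · a
      rcases cnt_square hx hi hii [true, false, true] false
        (cnt_mul_n hx hi [false, true, false, true] false (e1 h)) with h' | h'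
      · exact Or.inr (Or.inr (Or.inr (Or.inr (Or.inr (Or.inr (Or.inl h'))))))
      · exact Or.inr (Or.inr (Or.inr (Or.inr (Or.inr (Or.inr (Or.inr (e2 h')))))))
  have hYb : ∀ y ∈ Y, y * nb ∈ Y := by
    intro y hy
    rw [hmemY] at hy ⊢
    rcases hy with h | h | h | h | h | h | h | h
    · -- 1 · b = b
      exact Or.inr (Or.inr (Or.inl (cnt_mul_n hx hi [] true h)))
    · -- a · b = ab
      exact Or.inr (Or.inr (Or.inr (Or.inl (cnt_mul_n hx hi [false] true h))))
    · -- b · b
      rcases cnt_square hx hi hii [] true (cnt_mul_n hx hi [true] true h) with h' | h'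
      · exact Or.inl h'
      · exact Or.inr (Or.inr (Or.inl h'))
    · -- ab · b
      rcases cnt_square hx hi hii [false] true (cnt_mul_n hx hi [true, false] true h) with h' | h'
      · exact Or.inr (Or.inl h')
      · exact Or.inr (Or.inr (Or.inr (Or.inl h')))
    · -- ba · b = bab
      exact Or.inr (Or.inr (Or.inr (Or.inr (Or.inr (Or.inr (Or.inl
        (cnt_mul_n hx hi [false, true] true h)))))))
    · -- aba · b = abab
      exact Or.inr (Or.inr (Or.inr (Or.inr (Or.inr (Or.inr (Or.inr
        (cnt_mul_n hx hi [false, true, false] true h)))))))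
    · -- bab · b
      rcases cnt_square hx hi hii [false, true] true
        (cnt_mul_n hx hi [true, false, true] true h) with h' | h'
      · exact Or.inr (Or.inr (Or.inr (Or.inr (Or.inl h'))))
      · exact Or.inr (Or.inr (Or.inr (Or.inr (Or.inr (Or.inr (Or.inl h'))))))
    · -- abab · b
      rcases cnt_square hx hi hii [false, true, false] true
        (cnt_mul_n hx hi [true, false, true, false] true h) with h' | h'
      · exact Or.inr (Or.inr (Or.inr (Or.inr (Or.inr (Or.inl h')))))
      · exact Or.inr (Or.inr (Or.inr (Or.inr (Or.inr (Or.inr (Or.inr h'))))))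
  -- inverses of the generators
  have hYa' : ∀ y ∈ Y, y * na⁻¹ ∈ Y := by
    intro y hy
    have e : y * na⁻¹ = y * na * (na * na)⁻¹ := by group
    rw [e]
    exact hYB _ (hYa y hy) _ (B.inv_mem hna2)
  have hYb' : ∀ y ∈ Y, y * nb⁻¹ ∈ Y := by
    intro y hy
    have e : y * nb⁻¹ = y * nb * (nb * nb)⁻¹ := by group
    rw [e]
    exact hYB _ (hYb y hy) _ (B.inv_mem hnb2)
  -- `Y` is stable under right multiplication by everything
  have hall : ∀ g : G, (∀ y ∈ Y, y * g ∈ Y) ∧ (∀ y ∈ Y, y * g⁻¹ ∈ Y) := by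
    intro g
    have hg : g ∈ Subgroup.closure ((B : Set G) ∪ {na, nb}) := by
      rw [hgen]
      exact Subgroup.mem_top g
    induction hg using Subgroup.closure_induction with
    | mem z hz =>
      rcases hz with hz | hz | hz
      · exact ⟨fun y hy => hYB y hy z hz, fun y hy => hYB y hy _ (B.inv_mem hz)⟩
      · rw [hz]
        exact ⟨hYa, hYa'⟩
      · rw [Set.mem_singleton_iff] at hz
        rw [hz]
        exact ⟨hYb, hYb'⟩
    | one =>
      refine ⟨fun y hy => ?_, fun y hy => ?_⟩
      · rwa [mul_one]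
      · rwa [inv_one, mul_one]
    | mul g₁ g₂ _ _ ih₁ ih₂ =>
      refine ⟨fun y hy => ?_, fun y hy => ?_⟩
      · rw [← mul_assoc]
        exact ih₂.1 _ (ih₁.1 y hy)
      · rw [mul_inv_rev, ← mul_assoc]
        exact ih₁.2 _ (ih₂.2 y hy)
    | inv g₁ _ ih =>
      refine ⟨ih.2, fun y hy => ?_⟩
      rw [inv_inv]
      exact ih.1 y hy
  have h1Y : (1 : G) ∈ Y := by
    rw [hmemY]
    exact Or.inl B.one_mem
  have hYuniv : Y = Set.univ := by
    rw [Set.eq_univ_iff_forall]
    intro g
    have := (hall g).1 1 h1Y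
    rwa [one_mul] at this
  -- counting
  have c0 := cnt_card (B := B) (x := x) (n := n) []
  have c1 := cnt_card (B := B) (x := x) (n := n) [false]
  have c2 := cnt_card (B := B) (x := x) (n := n) [true]
  have c3 := cnt_card (B := B) (x := x) (n := n) [true, false]
  have c4 := cnt_card (B := B) (x := x) (n := n) [false, true]
  have c5 := cnt_card (B := B) (x := x) (n := n) [false, true, false]
  have c6 := cnt_card (B := B) (x := x) (n := n) [true, false, true]
  have c7 := cnt_card (B := B) (x := x) (n := n) [true, false, true, false]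
  have hYfin : Y.Finite := by
    rw [hY]
    exact ((((((c0.1.union c1.1).union c2.1).union c3.1).union c4.1).union c5.1).union c6.1).union
      c7.1
  have hGfin : Finite G := by
    rw [hYuniv] at hYfin
    exact Set.finite_univ_iff.mp hYfin
  refine ⟨hGfin, ?_⟩
  have hcardG : Nat.card G = Y.ncard := by
    rw [hYuniv, Set.ncard_univ]
  rw [hcardG, hY]
  set q := Fintype.card F with hq
  have l0 : ([] : List Bool).length = 0 := rfl
  have l1 : ([false] : List Bool).length = 1 := rfl
  have l2 : ([true] : List Bool).length = 1 := rfl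
  have l3 : ([true, false] : List Bool).length = 2 := rfl
  have l4 : ([false, true] : List Bool).length = 2 := rfl
  have l5 : ([false, true, false] : List Bool).length = 3 := rfl
  have l6 : ([true, false, true] : List Bool).length = 3 := rfl
  have l7 : ([true, false, true, false] : List Bool).length = 4 := rfl
  have b0 := c0.2
  have b1 := c1.2
  have b2 := c2.2
  have b3 := c3.2
  have b4 := c4.2
  have b5 := c5.2
  have b6 := c6.2
  have b7 := c7.2
  rw [l0] at b0
  rw [l1] at b1
  rw [l2] at b2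
  rw [l3] at b3
  rw [l4] at b4
  rw [l5] at b5
  rw [l6] at b6
  rw [l7] at b7
  have u1 := Set.ncard_union_le (cnt_cell B x n []) (cnt_cell B x n [false])
  have u2 := Set.ncard_union_le (cnt_cell B x n [] ∪ cnt_cell B x n [false]) (cnt_cell B x n [true])
  have u3 := Set.ncard_union_le (cnt_cell B x n [] ∪ cnt_cell B x n [false] ∪ cnt_cell B x n [true])
    (cnt_cell B x n [true, false])
  have u4 := Set.ncard_union_le (cnt_cell B x n [] ∪ cnt_cell B x n [false] ∪ cnt_cell B x n [true] ∪
    cnt_cell B x n [true, false]) (cnt_cell B x n [false, true])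
  have u5 := Set.ncard_union_le (cnt_cell B x n [] ∪ cnt_cell B x n [false] ∪ cnt_cell B x n [true] ∪
    cnt_cell B x n [true, false] ∪ cnt_cell B x n [false, true]) (cnt_cell B x n [false, true, false])
  have u6 := Set.ncard_union_le (cnt_cell B x n [] ∪ cnt_cell B x n [false] ∪ cnt_cell B x n [true] ∪
    cnt_cell B x n [true, false] ∪ cnt_cell B x n [false, true] ∪
    cnt_cell B x n [false, true, false]) (cnt_cell B x n [true, false, true])
  have u7 := Set.ncard_union_le (cnt_cell B x n [] ∪ cnt_cell B x n [false] ∪ cnt_cell B x n [true] ∪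
    cnt_cell B x n [true, false] ∪ cnt_cell B x n [false, true] ∪
    cnt_cell B x n [false, true, false] ∪ cnt_cell B x n [true, false, true])
    (cnt_cell B x n [true, false, true, false])
  have hsum : Nat.card B * (1 + 2 * q + 2 * q ^ 2 + 2 * q ^ 3 + q ^ 4) =
      Nat.card B * q ^ 0 + Nat.card B * q ^ 1 + Nat.card B * q ^ 1 + Nat.card B * q ^ 2 +
        Nat.card B * q ^ 2 + Nat.card B * q ^ 3 + Nat.card B * q ^ 3 + Nat.card B * q ^ 4 := by
    ring
  rw [hsum]
  omega

end Cfsg.Agent.Sp4Pres
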