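import Cfsg.Agent.Sp4Pres.H5_BorelA
import Cfsg.Agent.Sp4Pres.Count

set_option autoImplicit false
set_option linter.unusedSectionVars false

/-!
# S2293 piece Borel (helper5): the final count `sp4_card_le`
-/

namespace Cfsg.Agent.Sp4Pres

open Cfsg.Agent.SL2Pres

section main

variable {G : Type*} [Group G] {F : Type*} [Field F] [Fintype F]
  {ζ : Fˣ} {xa xb : F → G} {ta ha tb hb : G} {Ka Kb : ℕ}

/-- **The count.** -/
theorem sp4_card_le (hyp : Sp4Hyp ζ xa xb ta ha tb hb Ka Kb)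
    (hgen : Subgroup.closure {xa 1, ta, ha, xb 1, tb, hb} = ⊤) :
    Finite G ∧ Nat.card G ≤ Fintype.card F ^ 4 * (Ka * Kb) *
      (1 + 2 * Fintype.card F + 2 * Fintype.card F ^ 2 + 2 * Fintype.card F ^ 3 +
        Fintype.card F ^ 4) := by
  obtain ⟨hfin, hcard⟩ := bor_card_B hyp
  have : Finite ↥(bor_B hyp) := hfin
  have key := rank2_count (F := F) (bor_B hyp) xa xb ta tb
    (bor_xa_mem_B hyp) (bor_xb_mem_B hyp) (bor_ta_sq hyp) (bor_tb_sq hyp)
    (bor_ia hyp) (bor_ia' hyp) (bor_ib hyp) (bor_ib' hyp) (bor_iia hyp) (bor_iib hyp)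
    (fun c => bor_x2ab_mem_B hyp c) (fun c => bor_xab_mem_B hyp c)
    (bor_h2a hyp) (bor_h2b hyp) (bor_h3a hyp) (bor_h3b hyp) (bor_braid hyp) (bor_gen hyp hgen)
  exact ⟨key.1, key.2.trans (Nat.mul_le_mul_right _ hcard)⟩

end main

end Cfsg.Agent.Sp4Pres
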