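import Cfsg.Agent.Sp4Pres.L2
import Cfsg.Agent.Sp4Pres.Borel

/-!
# Presentations of `Sp₄(F)`: the abstract group side (piece GSide)
-/

set_option autoImplicit false

namespace Cfsg.Agent.Sp4Pres

open Cfsg.Agent.SL2Pres Polynomial

variable {G : Type*} [Group G] {F : Type*} [Field F] [Fintype F] {p : ℕ} [Fact p.Prime]
  [Algebra (ZMod p) F]

/-- the Bruhat polynomial of type `B₂` -/
def gs_poly (q : ℕ) : ℕ := 1 + 2 * q + 2 * q ^ 2 + 2 * q ^ 3 + q ^ 4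

/-- **The abstract group side**: a group generated by six elements satisfying the `SL₂`-relations for
both triples and the twelve cross relations is finite of order at most `|Sp₄(F)|`. -/
theorem gside6 (ζ : Fˣ) (hζ : ∀ a : Fˣ, a ∈ Subgroup.zpowers ζ) (ua ta ha ub tb hb : G)
    (hgen : Subgroup.closure {ua, ta, ha, ub, tb, hb} = ⊤)
    -- the `α`-triple
    (hua : ua ^ p = 1) (hcomma : ∀ i j : ℤ, Commute (cj ha ua i) (cj ha ua j))
    (hma : polyProd ha ua (minpoly (ZMod p) ((ζ : F) ^ 2)) = 1)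
    (htha : ta * ha * ta⁻¹ = ha⁻¹) (Ma : ℕ) (hta2 : ta ^ 2 = ha ^ Ma)
    (hfam0a : ta * ua * ta⁻¹ = ua⁻¹ * ta * ua⁻¹)
    -- the `β`-triple
    (hub : ub ^ p = 1) (hcommb : ∀ i j : ℤ, Commute (cj hb ub i) (cj hb ub j))
    (hmb : polyProd hb ub (minpoly (ZMod p) ((ζ : F) ^ 2)) = 1)
    (hthb : tb * hb * tb⁻¹ = hb⁻¹) (Mb : ℕ) (htb2 : tb ^ 2 = hb ^ Mb)
    (hfam0b : tb * ub * tb⁻¹ = ub⁻¹ * tb * ub⁻¹)
    (Pζ Pν : (ZMod p)[X]) (hPζ : aeval ((ζ : F) ^ 2) Pζ = (ζ : F))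
    (hPν : aeval ((ζ : F) ^ 2) Pν = -(ζ : F)⁻¹)
    (hνa : ta * polyProd ha ua Pζ * ta⁻¹ = polyProd ha ua Pν * ha⁻¹ * ta * polyProd ha ua Pν)
    (hνb : tb * polyProd hb ub Pζ * tb⁻¹ = polyProd hb ub Pν * hb⁻¹ * tb * polyProd hb ub Pν)
    -- the cross relations
    (Pinv : (ZMod p)[X]) (hPinv : aeval ((ζ : F) ^ 2) Pinv = (ζ : F)⁻¹)
    (w1 : ha * hb = hb * ha) (w2 : hb * ua * hb⁻¹ = polyProd ha ua Pinv)
    (w3 : ha * ub * ha⁻¹ = hb⁻¹ * ub * hb)
    (w4 : ta * hb * ta⁻¹ = ha * hb) (w5 : tb * ha * tb⁻¹ = ha * hb ^ 2)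
    (w6 : ta * tb * ta * tb = tb * ta * tb * ta)
    (w7 : (tb⁻¹ * ta * tb) * ua * (tb⁻¹ * ta * tb)⁻¹ = ua⁻¹)
    (w8 : (ta⁻¹ * tb * ta) * ub * (ta⁻¹ * tb * ta)⁻¹ = ub)
    (w9 : Commute ub (ta * ub * ta⁻¹)) (w10 : Commute ua (ta * ub * ta⁻¹))
    (w11 : ua * (tb * ua * tb⁻¹) * ua⁻¹ * (tb * ua * tb⁻¹)⁻¹ = ta * (ub ^ 2)⁻¹ * ta⁻¹)
    (w12 : ua * ub * ua⁻¹ * ub⁻¹ = (tb * ua⁻¹ * tb⁻¹) * (ta * ub * ta⁻¹)) :
    Finite G ∧
      Nat.card G ≤ Fintype.card F ^ 4 * ((Fintype.card F - 1) * (Fintype.card F - 1)) *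
        gs_poly (Fintype.card F) ∧
      ((2 : F) ≠ 0 → ta ^ 2 = 1 →
        Nat.card G ≤ Fintype.card F ^ 4 * ((Fintype.card F - 1) / 2 * (Fintype.card F - 1)) *
          gs_poly (Fintype.card F)) := by
  obtain ⟨xa, adda, hxa1, hconja, fama, hKa, hKa2⟩ :=
    l2_data ζ hζ ua ta ha hua hcomma hma htha hfam0a Pζ Pν hPζ hPν hνa
  obtain ⟨xb, addb, hxb1, hconjb, famb, hKb, -⟩ :=
    l2_data ζ hζ ub tb hb hub hcommb hmb hthb hfam0b Pζ Pν hPζ hPν hνb
  have hq : 2 ≤ Fintype.card F := Fintype.one_lt_card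
  -- the mixed torus actions
  have hb_xa : ∀ c, hb * xa c * hb⁻¹ = xa ((ζ : F)⁻¹ * c) := by
    have e1 := polyProd_eq xa adda ha ua _ hxa1 hconja Pinv
    rw [hPinv] at e1
    apply spread_conj ζ hζ xa adda ha hconja hb w1.symm
    rw [hxa1, w2, e1]
  have ha_xb : ∀ c, ha * xb c * ha⁻¹ = xb (((ζ : F)⁻¹) ^ 2 * c) := by
    apply spread_conj ζ hζ xb addb hb hconjb ha w1
    rw [hxb1, w3]
    have h1 : ∀ a, hb * xb a * hb⁻¹ = xb (((ζ ^ 2 : Fˣ) : F) * a) := by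
      intro a; rw [hconjb, Units.val_pow_eq_pow_val]
    have := x_conj_zpow xb hb (ζ ^ 2) h1 (-1) 1
    rw [zpow_neg, zpow_one, neg_neg, zpow_one, mul_one, hxb1] at this
    rw [this]
    congr 1
    rw [zpow_neg, zpow_one, Units.val_inv_eq_inv_val, Units.val_pow_eq_pow_val, inv_pow]
  -- the hypotheses structure, for given exponent bounds
  have mk : ∀ Ka : ℕ, 0 < Ka → ha ^ Ka = 1 →
      Sp4Hyp ζ xa xb ta ha tb hb Ka (Fintype.card F - 1) := by
    intro Ka hKapos hKapow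
    exact
      { hζ := hζ
        adda := adda
        addb := addb
        ha_xa := hconja
        hb_xb := hconjb
        hb_xa := hb_xa
        ha_xb := ha_xb
        hcomm := w1
        Ka_pos := hKapos
        Kb_pos := by omega
        ha_pow := hKapow
        hb_pow := hKb
        ta_ha := htha
        tb_hb := hthb
        ta_hb := w4
        tb_ha := w5
        ta_sq := ⟨Ma, hta2⟩
        tb_sq := ⟨Mb, htb2⟩
        fama := fama
        famb := famb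
        braid := ⟨0, 0, by rw [zpow_zero, zpow_zero, mul_one, mul_one]; exact w6⟩
        s1 := ⟨-1, by rw [hxa1, x_neg xa adda, hxa1]; exact w7⟩
        s2 := ⟨1, by rw [hxb1]; exact w8⟩
        c1 := by rw [hxb1]; exact w9
        c2 := by rw [hxa1, hxb1]; exact w10
        c3 := ⟨-2, by
          rw [hxa1, w11, x_neg xb addb]
          have : xb (2 : F) = ub ^ 2 := by
            have := x_natCast_mul xb addb 2 1
            rw [hxb1] at this
            rw [← this]; norm_num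
          rw [this]⟩
        c4 := ⟨-1, 1, by rw [hxa1, hxb1, x_neg xa adda, hxa1]; exact w12⟩ }
  have hgen' : Subgroup.closure {xa 1, ta, ha, xb 1, tb, hb} = ⊤ := by rw [hxa1, hxb1]; exact hgen
  have main := sp4_card_le (mk (Fintype.card F - 1) (by omega) hKa) hgen'
  refine ⟨main.1, main.2, ?_⟩
  intro h2 ht1
  have hodd : Fintype.card F % 2 = 1 :=
    FiniteField.odd_card_of_char_ne_two (fun hc => h2 (fd_two_eq_zero_iff.mpr hc))
  exact (sp4_card_le (mk ((Fintype.card F - 1) / 2) (by omega) (hKa2 h2 ht1)) hgen').2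

end Cfsg.Agent.Sp4Pres
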