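import Cfsg.Agent.Sp4Pres.TSide
import Cfsg.Agent.Sp4Pres.GSide

/-!
# Presentations of `Sp₄(F)` and `PSp₄(F)`: assembly (piece Asm)
-/

set_option autoImplicit false

namespace Cfsg.Agent.Sp4Pres

open Cfsg.Agent.SL2Pres Polynomial Matrix

section main

variable {F : Type*} [Field F] [Fintype F]

/-- the full relator list -/
noncomputable def allRels {p : ℕ} (L3a L3b : List (FreeGroup (Fin 3))) (Pinv : (ZMod p)[X]) :
    List (FreeGroup (Fin 6)) :=
  L3a.map mapA ++ L3b.map mapB ++ crossRels Pinv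

theorem allRels_length {p : ℕ} (L3a L3b : List (FreeGroup (Fin 3))) (Pinv : (ZMod p)[X]) :
    (allRels L3a L3b Pinv).length = L3a.length + L3b.length + 12 := by
  simp only [allRels, crossRels, List.length_append, List.length_map, List.length_cons,
    List.length_nil]

/-- **The `G`-side for a presented group** whose relators contain the full list. -/
theorem asm_core {p : ℕ} [Fact p.Prime] [Algebra (ZMod p) F] (ζ : Fˣ)
    (hζ : ∀ a : Fˣ, a ∈ Subgroup.zpowers ζ)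
    (L3a L3b : List (FreeGroup (Fin 3))) (Ma Mb : ℕ) (Pζ Pν Pinv : (ZMod p)[X])
    (hPζ : aeval ((ζ : F) ^ 2) Pζ = (ζ : F)) (hPν : aeval ((ζ : F) ^ 2) Pν = -(ζ : F)⁻¹)
    (hPinv : aeval ((ζ : F) ^ 2) Pinv = (ζ : F)⁻¹)
    (hfa : ∀ {G : Type} [Group G] (ψ : FreeGroup (Fin 3) →* G), (∀ r ∈ L3a, ψ r = 1) →
      Sl2Facts ζ (ψ wU) (ψ wT) (ψ wH) Ma Pζ Pν)
    (hfb : ∀ {G : Type} [Group G] (ψ : FreeGroup (Fin 3) →* G), (∀ r ∈ L3b, ψ r = 1) →
      Sl2Facts ζ (ψ wU) (ψ wT) (ψ wH) Mb Pζ Pν)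
    (rels : Set (FreeGroup (Fin 6))) (hrels : ∀ r ∈ allRels L3a L3b Pinv, r ∈ rels) :
    Finite (PresentedGroup rels) ∧
      Nat.card (PresentedGroup rels) ≤
        Fintype.card F ^ 4 * ((Fintype.card F - 1) * (Fintype.card F - 1)) *
          gs_poly (Fintype.card F) ∧
      ((2 : F) ≠ 0 → Ma = 0 →
        Nat.card (PresentedGroup rels) ≤
          Fintype.card F ^ 4 * ((Fintype.card F - 1) / 2 * (Fintype.card F - 1)) *
            gs_poly (Fintype.card F)) := by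
  set ψ : FreeGroup (Fin 6) →* PresentedGroup rels := PresentedGroup.mk rels with hψ
  have hone : ∀ r ∈ allRels L3a L3b Pinv, ψ r = 1 :=
    fun r hr => PresentedGroup.one_of_mem (hrels r hr)
  have honeA : ∀ r ∈ L3a, (ψ.comp mapA) r = 1 := by
    intro r hr
    exact hone _ (by simp only [allRels, List.mem_append, List.mem_map]; left; left; exact ⟨r, hr, rfl⟩)
  have honeB : ∀ r ∈ L3b, (ψ.comp mapB) r = 1 := by
    intro r hr
    exact hone _ (by simp only [allRels, List.mem_append, List.mem_map]; left; right; exact ⟨r, hr, rfl⟩)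
  have honeX : ∀ r ∈ crossRels Pinv, ψ r = 1 := by
    intro r hr
    exact hone _ (by simp only [allRels, List.mem_append]; right; exact hr)
  have fa := hfa (ψ.comp mapA) honeA
  have fb := hfb (ψ.comp mapB) honeB
  simp only [MonoidHom.comp_apply, mapA_U, mapA_T, mapA_H] at fa
  simp only [MonoidHom.comp_apply, mapB_U, mapB_T, mapB_H] at fb
  obtain ⟨hua, hcomma, hma, htha, hta2, hfam0a, hνa⟩ := fa
  obtain ⟨hub, hcommb, hmb, hthb, htb2, hfam0b, hνb⟩ := fb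
  have main := gside6 ζ hζ (ψ UA) (ψ TA) (ψ HA) (ψ UB) (ψ TB) (ψ HB) (closure_gens6 rels)
    hua hcomma hma htha Ma hta2 hfam0a hub hcommb hmb hthb Mb htb2 hfam0b Pζ Pν hPζ hPν hνa hνb
    Pinv hPinv
    ((x1_iff ψ).mp (honeX _ (by simp [crossRels])))
    ((x2_iff ψ Pinv).mp (honeX _ (by simp [crossRels])))
    ((x3_iff ψ).mp (honeX _ (by simp [crossRels])))
    ((x4_iff ψ).mp (honeX _ (by simp [crossRels])))
    ((x5_iff ψ).mp (honeX _ (by simp [crossRels])))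
    ((x6_iff ψ).mp (honeX _ (by simp [crossRels])))
    ((x7_iff ψ).mp (honeX _ (by simp [crossRels])))
    ((x8_iff ψ).mp (honeX _ (by simp [crossRels])))
    ((x9_iff ψ).mp (honeX _ (by simp [crossRels])))
    ((x10_iff ψ).mp (honeX _ (by simp [crossRels])))
    ((x11_iff ψ).mp (honeX _ (by simp [crossRels])))
    ((x12_iff ψ).mp (honeX _ (by simp [crossRels])))
  refine ⟨main.1, main.2.1, ?_⟩
  intro h2 hMa
  apply main.2.2 h2
  rw [hta2, hMa, pow_zero]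

omit [Fintype F] in
/-- the odd `SL₂`-relators hold for the matrices -/
theorem liftM_relsOdd {p : ℕ} [CharP F p] [Fact p.Prime] [Algebra (ZMod p) F] (ζ : Fˣ) (M : ℕ)
    (hM1 : (ζ : F) ^ M = -1)
    (Pζ Pν : (ZMod p)[X]) (hPζ : aeval ((ζ : F) ^ 2) Pζ = (ζ : F))
    (hPν : aeval ((ζ : F) ^ 2) Pν = -(ζ : F)⁻¹) (LN : List (FreeGroup (Fin 3)))
    (hLNrel : ∀ r ∈ LN, liftM ζ r = 1) :
    ∀ r ∈ [rU p, rM (minpoly (ZMod p) ((ζ : F) ^ 2)), rTH, rT2 M, rR3, rNu Pζ Pν] ++ LN,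
      liftM ζ r = 1 := by
  intro r hr
  simp only [List.mem_append, List.mem_cons, List.not_mem_nil, or_false] at hr
  rcases hr with (rfl | rfl | rfl | rfl | rfl | rfl) | hr
  · exact liftM_rU ζ p
  · exact liftM_rM ζ
  · exact liftM_rTH ζ
  · exact liftM_rT2 ζ M hM1
  · exact liftM_rR3 ζ
  · exact liftM_rNu ζ Pζ Pν hPζ hPν
  · exact hLNrel r hr

/-- the `N`-relations, odd case -/
theorem exists_LN_odd (ζ : Fˣ) (hζ : ∀ a : Fˣ, a ∈ Subgroup.zpowers ζ) :
    ∃ (k : ℕ) (LN : List (FreeGroup (Fin 3))),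
      (((ζ : F) ^ 2 + 1 = 0 ∧ LN = []) ∨ (LN = [rC 1, rC 2, rKodd k])) ∧ LN.length ≤ 3 ∧
      ∀ r ∈ LN, liftM ζ r = 1 := by
  by_cases hg1 : (ζ : F) ^ 2 + 1 = 0
  · exact ⟨0, [], Or.inl ⟨hg1, rfl⟩, by simp, by simp⟩
  · obtain ⟨k, hk⟩ := exists_pow_eq_sq ζ hζ hg1
    refine ⟨k, _, Or.inr rfl, by simp, ?_⟩
    intro r hr
    simp only [List.mem_cons, List.not_mem_nil, or_false] at hr
    rcases hr with rfl | rfl | rfl
    · exact liftM_rC ζ 1
    · exact liftM_rC ζ 2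
    · exact liftM_rKodd ζ k hk

/-- the `N`-relations, even case -/
theorem exists_LN_even (h2 : (2 : F) = 0) (ζ : Fˣ) (hζ : ∀ a : Fˣ, a ∈ Subgroup.zpowers ζ) :
    ∃ (k : ℕ) (LN : List (FreeGroup (Fin 3))),
      (((ζ : F) ^ 2 + 1 = 0 ∧ LN = []) ∨ (LN = [rKeven k])) ∧ LN.length ≤ 1 ∧
      ∀ r ∈ LN, liftM ζ r = 1 := by
  by_cases hg1 : (ζ : F) ^ 2 + 1 = 0
  · exact ⟨0, [], Or.inl ⟨hg1, rfl⟩, by simp, by simp⟩
  · obtain ⟨k, hk⟩ := exists_pow_eq_add_one ζ hζ h2 hg1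
    refine ⟨k, _, Or.inr rfl, by simp, ?_⟩
    intro r hr
    simp only [List.mem_cons, List.not_mem_nil, or_false] at hr
    rcases hr with rfl
    exact liftM_rKeven ζ k hk

omit [Fintype F] in
/-- the `T`-side for the full relator list, given the `SL₂`-lists -/
theorem lift6_allRels {p : ℕ} [Fact p.Prime] [Algebra (ZMod p) F] (ζ : Fˣ)
    (L3a L3b : List (FreeGroup (Fin 3))) (Pinv : (ZMod p)[X])
    (hPinv : aeval ((ζ : F) ^ 2) Pinv = (ζ : F)⁻¹)
    (ha : ∀ r ∈ L3a, liftM (F := F) ζ r = 1) (hb : ∀ r ∈ L3b, liftM (F := F) ζ r = 1) :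
    ∀ r ∈ allRels L3a L3b Pinv, lift6 (F := F) ζ r = 1 := by
  intro r hr
  simp only [allRels, List.mem_append, List.mem_map] at hr
  rcases hr with (⟨r3, hr3, rfl⟩ | ⟨r3, hr3, rfl⟩) | hr
  · rw [lift6_mapA_apply, ha r3 hr3, map_one]
  · rw [lift6_mapB_apply, hb r3 hr3, map_one]
  · exact lift6_crossRels ζ Pinv hPinv r hr

/-- **`Sp₄(F)`, `q` odd: 30 relators.** -/
theorem pres_Sp4_odd (h2 : (2 : F) ≠ 0) :
    ∃ rels : Finset (FreeGroup (Fin 6)), rels.card ≤ 30 ∧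
      Nonempty (PresentedGroup (↑rels : Set (FreeGroup (Fin 6))) ≃*
        symplecticGroup (Fin 2) F) := by
  obtain ⟨p, hp⟩ := CharP.exists F
  haveI : Fact p.Prime := ⟨CharP.char_is_prime F p⟩
  letI : Algebra (ZMod p) F := ZMod.algebra F p
  obtain ⟨ζ, hζ⟩ := exists_zeta F
  have hadj := adjoin_sq_eq_top (p := p) ζ hζ
  obtain ⟨Pζ, hPζ⟩ := exists_poly _ hadj (ζ : F)
  obtain ⟨Pν, hPν⟩ := exists_poly _ hadj (-(ζ : F)⁻¹)
  obtain ⟨Pinv, hPinv⟩ := exists_poly _ hadj ((ζ : F)⁻¹)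
  have hM1 := zeta_pow_half ζ hζ h2
  obtain ⟨k, LN, hLN, hlen, hLNrel⟩ := exists_LN_odd ζ hζ
  set M := (Fintype.card F - 1) / 2 with hMdef
  set L3 := [rU p, rM (minpoly (ZMod p) ((ζ : F) ^ 2)), rTH, rT2 M, rR3, rNu Pζ Pν] ++ LN with hL3
  have hL3len : L3.length ≤ 9 := by
    simp only [hL3, List.length_append, List.length_cons, List.length_nil]; omega
  refine pres_wrap6 (allRels L3 L3 Pinv) 30 (by rw [allRels_length]; omega)
    (lift6 ζ) (lift6_surjective (p := p) ζ hζ) ?_ ?_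
  · exact lift6_allRels ζ L3 L3 Pinv hPinv
      (liftM_relsOdd ζ M hM1 Pζ Pν hPζ hPν LN hLNrel)
      (liftM_relsOdd ζ M hM1 Pζ Pν hPζ hPν LN hLNrel)
  · intro rels hrels
    have main := asm_core ζ hζ L3 L3 M M Pζ Pν Pinv hPζ hPν hPinv
      (fun ψ hψ => sl2_facts_odd ψ ζ k LN hLN M Pζ Pν hψ)
      (fun ψ hψ => sl2_facts_odd ψ ζ k LN hLN M Pζ Pν hψ) rels hrels
    refine ⟨main.1, ?_⟩
    rw [card_Sp4]
    exact main.2.1

/-- the quotient map onto `PSp₄(F)` -/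
def piS : symplecticGroup (Fin 2) F →* Cfsg.PSp 2 F :=
  QuotientGroup.mk' (Subgroup.center (symplecticGroup (Fin 2) F))

omit [Fintype F] in
theorem piS_surjective : Function.Surjective (piS (F := F)) := QuotientGroup.mk'_surjective _

omit [Fintype F] in
theorem piS_eq_one_of_mem_center {A : symplecticGroup (Fin 2) F}
    (hA : A ∈ Subgroup.center (symplecticGroup (Fin 2) F)) : piS A = 1 :=
  (QuotientGroup.eq_one_iff A).mpr hA

/-- **`PSp₄(F)`, `q` odd: 30 relators.** -/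
theorem pres_PSp4_odd (h2 : (2 : F) ≠ 0) :
    ∃ rels : Finset (FreeGroup (Fin 6)), rels.card ≤ 30 ∧
      Nonempty (PresentedGroup (↑rels : Set (FreeGroup (Fin 6))) ≃* Cfsg.PSp 2 F) := by
  obtain ⟨p, hp⟩ := CharP.exists F
  haveI : Fact p.Prime := ⟨CharP.char_is_prime F p⟩
  letI : Algebra (ZMod p) F := ZMod.algebra F p
  obtain ⟨ζ, hζ⟩ := exists_zeta F
  have hadj := adjoin_sq_eq_top (p := p) ζ hζ
  obtain ⟨Pζ, hPζ⟩ := exists_poly _ hadj (ζ : F)
  obtain ⟨Pν, hPν⟩ := exists_poly _ hadj (-(ζ : F)⁻¹)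
  obtain ⟨Pinv, hPinv⟩ := exists_poly _ hadj ((ζ : F)⁻¹)
  have hM1 := zeta_pow_half ζ hζ h2
  obtain ⟨k, LN, hLN, hlen, hLNrel⟩ := exists_LN_odd ζ hζ
  set M := (Fintype.card F - 1) / 2 with hMdef
  set L3a := [rU p, rM (minpoly (ZMod p) ((ζ : F) ^ 2)), rTH, rT2 0, rR3, rNu Pζ Pν] ++ LN
    with hL3a
  set L3b := [rU p, rM (minpoly (ZMod p) ((ζ : F) ^ 2)), rTH, rT2 M, rR3, rNu Pζ Pν] ++ LN
    with hL3b
  have hL3alen : L3a.length ≤ 9 := by
    simp only [hL3a, List.length_append, List.length_cons, List.length_nil]; omega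
  have hL3blen : L3b.length ≤ 9 := by
    simp only [hL3b, List.length_append, List.length_cons, List.length_nil]; omega
  refine pres_wrap6 (allRels L3a L3b Pinv) 30 (by rw [allRels_length]; omega)
    (piS.comp (lift6 ζ)) (piS_surjective.comp (lift6_surjective (p := p) ζ hζ)) ?_ ?_
  · intro r hr
    rw [MonoidHom.comp_apply]
    simp only [allRels, List.mem_append, List.mem_map] at hr
    rcases hr with (⟨r3, hr3, rfl⟩ | ⟨r3, hr3, rfl⟩) | hr
    · rw [lift6_mapA_apply]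
      simp only [hL3a, List.mem_append, List.mem_cons, List.not_mem_nil, or_false] at hr3
      rcases hr3 with (rfl | rfl | rfl | rfl | rfl | rfl) | hr3
      · rw [liftM_rU ζ p, map_one, map_one]
      · rw [liftM_rM ζ, map_one, map_one]
      · rw [liftM_rTH ζ, map_one, map_one]
      · apply piS_eq_one_of_mem_center
        rw [rT2, map_mul, map_inv, map_pow, map_pow, liftM_T, pow_zero, inv_one, mul_one,
          map_pow]
        exact iotaA_tM_sq_mem_center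
      · rw [liftM_rR3 ζ, map_one, map_one]
      · rw [liftM_rNu ζ Pζ Pν hPζ hPν, map_one, map_one]
      · rw [hLNrel r3 hr3, map_one, map_one]
    · rw [lift6_mapB_apply, liftM_relsOdd ζ M hM1 Pζ Pν hPζ hPν LN hLNrel r3 hr3, map_one,
        map_one]
    · rw [lift6_crossRels ζ Pinv hPinv r hr, map_one]
  · intro rels hrels
    have main := asm_core ζ hζ L3a L3b 0 M Pζ Pν Pinv hPζ hPν hPinv
      (fun ψ hψ => sl2_facts_odd ψ ζ k LN hLN 0 Pζ Pν hψ)
      (fun ψ hψ => sl2_facts_odd ψ ζ k LN hLN M Pζ Pν hψ) rels hrels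
    refine ⟨main.1, ?_⟩
    rw [card_PSp4_odd h2]
    exact main.2.2 h2 rfl

/-- **`Sp₄(F)`, `q` even: 22 relators.** -/
theorem pres_Sp4_even (h2 : (2 : F) = 0) :
    ∃ rels : Finset (FreeGroup (Fin 6)), rels.card ≤ 22 ∧
      Nonempty (PresentedGroup (↑rels : Set (FreeGroup (Fin 6))) ≃*
        symplecticGroup (Fin 2) F) := by
  haveI : CharP F 2 := by
    have := fd_two_eq_zero_iff.mp h2
    rw [← this]; exact ringChar.charP F
  haveI : Fact (Nat.Prime 2) := ⟨Nat.prime_two⟩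
  letI : Algebra (ZMod 2) F := ZMod.algebra F 2
  obtain ⟨ζ, hζ⟩ := exists_zeta F
  have hadj := adjoin_sq_eq_top (p := 2) ζ hζ
  obtain ⟨Pζ, hPζ⟩ := exists_poly _ hadj (ζ : F)
  obtain ⟨Pν, hPν⟩ := exists_poly _ hadj (-(ζ : F)⁻¹)
  obtain ⟨Pinv, hPinv⟩ := exists_poly _ hadj ((ζ : F)⁻¹)
  obtain ⟨k, LN, hLN, hlen, hLNrel⟩ := exists_LN_even h2 ζ hζ
  have hneg1 : (-1 : Fˣ) = 1 := by
    apply Units.ext
    rw [Units.val_neg, Units.val_one]
    linear_combination -h2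
  have hu2 : xM (1 : F) ^ 2 = 1 := xM_pow_char 2
  have ht2M : (tM : SpecialLinearGroup (Fin 2) F) ^ 2 = 1 := by rw [tM_sq, hneg1, hM_one]
  set L3 := [rU 2, rBr, rM (minpoly (ZMod 2) ((ζ : F) ^ 2)), rNu Pζ Pν] ++ LN with hL3
  have hL3len : L3.length ≤ 5 := by
    simp only [hL3, List.length_append, List.length_cons, List.length_nil]; omega
  have hL3rel : ∀ r ∈ L3, liftM (F := F) ζ r = 1 := by
    intro r hr
    simp only [hL3, List.mem_append, List.mem_cons, List.not_mem_nil, or_false] at hr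
    rcases hr with (rfl | rfl | rfl | rfl) | hr
    · exact liftM_rU ζ 2
    · rw [rBr_iff, liftM_T, liftM_U]
      have h3 := (rR3_iff (liftM (F := F) ζ)).mp (liftM_rR3 ζ)
      rw [liftM_T, liftM_U] at h3
      have eu : (xM (1 : F))⁻¹ = xM 1 := inv_eq_of_mul_eq_one_left (by rw [← pow_two]; exact hu2)
      have et : (tM : SpecialLinearGroup (Fin 2) F)⁻¹ = tM :=
        inv_eq_of_mul_eq_one_left (by rw [← pow_two]; exact ht2M)
      rw [eu, et] at h3
      exact h3.symm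
    · exact liftM_rM ζ
    · exact liftM_rNu ζ Pζ Pν hPζ hPν
    · exact hLNrel r hr
  refine pres_wrap6 (allRels L3 L3 Pinv) 22 (by rw [allRels_length]; omega)
    (lift6 ζ) (lift6_surjective (p := 2) ζ hζ) ?_ ?_
  · exact lift6_allRels ζ L3 L3 Pinv hPinv hL3rel hL3rel
  · intro rels hrels
    have main := asm_core ζ hζ L3 L3 0 0 Pζ Pν Pinv hPζ hPν hPinv
      (fun ψ hψ => sl2_facts_even h2 rfl ψ ζ hζ k LN hLN Pζ Pν hψ)
      (fun ψ hψ => sl2_facts_even h2 rfl ψ ζ hζ k LN hLN Pζ Pν hψ) rels hrels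
    refine ⟨main.1, ?_⟩
    rw [card_Sp4]
    exact main.2.1

/-- **`PSp₄(F)`, `q` even: 22 relators.** -/
theorem pres_PSp4_even (h2 : (2 : F) = 0) :
    ∃ rels : Finset (FreeGroup (Fin 6)), rels.card ≤ 22 ∧
      Nonempty (PresentedGroup (↑rels : Set (FreeGroup (Fin 6))) ≃* Cfsg.PSp 2 F) := by
  obtain ⟨rels, hcard, ⟨e⟩⟩ := pres_Sp4_even h2
  refine ⟨rels, hcard, ?_⟩
  have hfin : Finite (symplecticGroup (Fin 2) F) := inferInstance
  obtain ⟨e'⟩ := iso_of_surjective (piS (F := F)) piS_surjective hfin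
    (le_of_eq (card_PSp4_even h2).symm)
  exact ⟨e.trans e'⟩

end main

end Cfsg.Agent.Sp4Pres
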