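import Cfsg.Agent.Sp4Pres.Spread

/-!
# Presentations of `Sp₄(F)`: the unipotent subgroups (piece Unip)

`U^α = X_β X_{α+β} X_{2α+β}` (abelian), `U^β = X_α X_{α+β} X_{2α+β}`,
`U = X_α X_β X_{α+β} X_{2α+β}`, all as subgroups of the abstract group, with the torus and the
Weyl lifts acting on them.
-/

set_option autoImplicit false

namespace Cfsg.Agent.Sp4Pres

open Cfsg.Agent.SL2Pres

section generic

variable {G : Type*} [Group G] {F : Type*} [Field F]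

/-- the image of an additive map, as a subgroup -/
def un_range (x : F → G) (hadd : ∀ a b, x (a + b) = x a * x b) : Subgroup G where
  carrier := Set.range x
  mul_mem' := by
    rintro _ _ ⟨a, rfl⟩ ⟨b, rfl⟩
    exact ⟨a + b, hadd a b⟩
  one_mem' := ⟨0, x_zero x hadd⟩
  inv_mem' := by
    rintro _ ⟨a, rfl⟩
    exact ⟨-a, x_neg x hadd a⟩

theorem un_mem_range (x : F → G) (hadd : ∀ a b, x (a + b) = x a * x b) (g : G) :
    g ∈ un_range x hadd ↔ ∃ a, x a = g := Iff.rfl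

/-- the product `x(F) · N` of the image of an additive map normalising the subgroup `N`,
as a subgroup -/
def un_semi (N : Subgroup G) (x : F → G) (hadd : ∀ a b, x (a + b) = x a * x b)
    (hn : ∀ a, ∀ w ∈ N, x a * w * (x a)⁻¹ ∈ N) : Subgroup G where
  carrier := {g | ∃ a, ∃ w ∈ N, g = x a * w}
  mul_mem' := by
    rintro _ _ ⟨a, w, hw, rfl⟩ ⟨a', w', hw', rfl⟩
    refine ⟨a + a', (x (-a') * w * (x (-a'))⁻¹) * w', N.mul_mem (hn _ _ hw) hw', ?_⟩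
    rw [hadd, x_neg x hadd]; group
  one_mem' := ⟨0, 1, N.one_mem, by rw [x_zero x hadd, one_mul]⟩
  inv_mem' := by
    rintro _ ⟨a, w, hw, rfl⟩
    refine ⟨-a, x a * w⁻¹ * (x a)⁻¹, hn _ _ (N.inv_mem hw), ?_⟩
    rw [x_neg x hadd]; group

theorem un_mem_semi (N : Subgroup G) (x : F → G) (hadd : ∀ a b, x (a + b) = x a * x b)
    (hn : ∀ a, ∀ w ∈ N, x a * w * (x a)⁻¹ ∈ N) (g : G) :
    g ∈ un_semi N x hadd hn ↔ ∃ a, ∃ w ∈ N, g = x a * w := Iff.rfl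

theorem un_le_semi (N : Subgroup G) (x : F → G) (hadd : ∀ a b, x (a + b) = x a * x b)
    (hn : ∀ a, ∀ w ∈ N, x a * w * (x a)⁻¹ ∈ N) : N ≤ un_semi N x hadd hn := by
  intro w hw
  exact ⟨0, w, hw, by rw [x_zero x hadd, one_mul]⟩

theorem un_x_mem_semi (N : Subgroup G) (x : F → G) (hadd : ∀ a b, x (a + b) = x a * x b)
    (hn : ∀ a, ∀ w ∈ N, x a * w * (x a)⁻¹ ∈ N) (a : F) : x a ∈ un_semi N x hadd hn :=
  ⟨a, 1, N.one_mem, by rw [mul_one]⟩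

theorem un_conj_mul₂ (g p q : G) : g * (p * q) * g⁻¹ = (g * p * g⁻¹) * (g * q * g⁻¹) := by group

theorem un_conj_mul₃ (g p q r : G) :
    g * (p * q * r) * g⁻¹ = (g * p * g⁻¹) * (g * q * g⁻¹) * (g * r * g⁻¹) := by group

theorem un_conj_mul₄ (g p q r s : G) :
    g * (p * q * r * s) * g⁻¹ =
      (g * p * g⁻¹) * (g * q * g⁻¹) * (g * r * g⁻¹) * (g * s * g⁻¹) := by group

end generic

section abstract

variable {G : Type*} [Group G] {F : Type*} [Field F] [Fintype F]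
  {ζ : Fˣ} {xa xb : F → G} {ta ha tb hb : G} {Ka Kb : ℕ}

/-! ### `V = X_{α+β} X_{2α+β}` -/

/-- `V = X_{α+β} X_{2α+β}` -/
def un_VSub (hyp : Sp4Hyp ζ xa xb ta ha tb hb Ka Kb) : Subgroup G :=
  un_semi (un_range (x2ab xb ta) (x2ab_add hyp)) (xab xa tb) (xab_add hyp) (by
    rintro c _ ⟨d, rfl⟩
    exact ⟨d, ((comm_xab_x2ab hyp c d).mul_inv_cancel).symm⟩)

theorem un_mem_VSub (hyp : Sp4Hyp ζ xa xb ta ha tb hb Ka Kb) (g : G) :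
    g ∈ un_VSub hyp ↔ ∃ c d : F, g = xab xa tb c * x2ab xb ta d := by
  constructor
  · rintro ⟨c, _, ⟨d, rfl⟩, rfl⟩
    exact ⟨c, d, rfl⟩
  · rintro ⟨c, d, rfl⟩
    exact ⟨c, _, ⟨d, rfl⟩, rfl⟩

theorem un_xab_mem_VSub (hyp : Sp4Hyp ζ xa xb ta ha tb hb Ka Kb) (c : F) :
    xab xa tb c ∈ un_VSub hyp :=
  un_x_mem_semi _ _ _ _ c

theorem un_x2ab_mem_VSub (hyp : Sp4Hyp ζ xa xb ta ha tb hb Ka Kb) (d : F) :
    x2ab xb ta d ∈ un_VSub hyp :=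
  un_le_semi _ _ _ _ ⟨d, rfl⟩

/-- `X_β` centralises `V` -/
theorem un_xb_comm_V (hyp : Sp4Hyp ζ xa xb ta ha tb hb Ka Kb) (b : F) {v : G}
    (hv : v ∈ un_VSub hyp) : Commute (xb b) v := by
  obtain ⟨c, d, rfl⟩ := (un_mem_VSub hyp v).1 hv
  exact (comm_xb_xab hyp b c).mul_right (comm_xb_x2ab hyp b d)

/-- `xa a * xab c * (xa a)⁻¹ = xab c * x2ab e` -/
theorem un_xa_conj_xab (hyp : Sp4Hyp ζ xa xb ta ha tb hb Ka Kb) (a c : F) :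
    ∃ e : F, xa a * xab xa tb c * (xa a)⁻¹ = xab xa tb c * x2ab xb ta e := by
  obtain ⟨e, he⟩ := comm3 hyp a c
  refine ⟨e, ?_⟩
  rw [(comm_xab_x2ab hyp c e).eq, ← he]; group

/-- `X_α` normalises `V` -/
theorem un_xa_conj_V (hyp : Sp4Hyp ζ xa xb ta ha tb hb Ka Kb) (a : F) {v : G}
    (hv : v ∈ un_VSub hyp) : xa a * v * (xa a)⁻¹ ∈ un_VSub hyp := by
  obtain ⟨c, d, rfl⟩ := (un_mem_VSub hyp v).1 hv
  obtain ⟨e, he⟩ := un_xa_conj_xab hyp a c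
  rw [un_conj_mul₂, he, (comm_xa_x2ab hyp a d).mul_inv_cancel]
  exact (un_VSub hyp).mul_mem
    ((un_VSub hyp).mul_mem (un_xab_mem_VSub hyp c) (un_x2ab_mem_VSub hyp e))
    (un_x2ab_mem_VSub hyp d)

/-! ### `U^α` and `U^β` via the generic construction -/

/-- `U^α = X_β V` -/
def un_UaSub (hyp : Sp4Hyp ζ xa xb ta ha tb hb Ka Kb) : Subgroup G :=
  un_semi (un_VSub hyp) xb hyp.addb (by
    intro b v hv
    rw [(un_xb_comm_V hyp b hv).mul_inv_cancel]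
    exact hv)

/-- `U^β = X_α V` -/
def un_UbSub (hyp : Sp4Hyp ζ xa xb ta ha tb hb Ka Kb) : Subgroup G :=
  un_semi (un_VSub hyp) xa hyp.adda (fun a _ hv => un_xa_conj_V hyp a hv)

theorem un_mem_UaSub (hyp : Sp4Hyp ζ xa xb ta ha tb hb Ka Kb) (g : G) :
    g ∈ un_UaSub hyp ↔ ∃ b c d : F, g = xb b * xab xa tb c * x2ab xb ta d := by
  constructor
  · rintro ⟨b, v, hv, rfl⟩
    obtain ⟨c, d, rfl⟩ := (un_mem_VSub hyp v).1 hv
    exact ⟨b, c, d, by rw [mul_assoc]⟩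
  · rintro ⟨b, c, d, rfl⟩
    exact ⟨b, _, (un_mem_VSub hyp _).2 ⟨c, d, rfl⟩, by rw [mul_assoc]⟩

theorem un_mem_UbSub (hyp : Sp4Hyp ζ xa xb ta ha tb hb Ka Kb) (g : G) :
    g ∈ un_UbSub hyp ↔ ∃ a c d : F, g = xa a * xab xa tb c * x2ab xb ta d := by
  constructor
  · rintro ⟨a, v, hv, rfl⟩
    obtain ⟨c, d, rfl⟩ := (un_mem_VSub hyp v).1 hv
    exact ⟨a, c, d, by rw [mul_assoc]⟩
  · rintro ⟨a, c, d, rfl⟩
    exact ⟨a, _, (un_mem_VSub hyp _).2 ⟨c, d, rfl⟩, by rw [mul_assoc]⟩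

theorem un_V_le_Ua (hyp : Sp4Hyp ζ xa xb ta ha tb hb Ka Kb) : un_VSub hyp ≤ un_UaSub hyp :=
  un_le_semi _ _ _ _

theorem un_V_le_Ub (hyp : Sp4Hyp ζ xa xb ta ha tb hb Ka Kb) : un_VSub hyp ≤ un_UbSub hyp :=
  un_le_semi _ _ _ _

theorem un_xb_mem_Ua (hyp : Sp4Hyp ζ xa xb ta ha tb hb Ka Kb) (b : F) : xb b ∈ un_UaSub hyp :=
  un_x_mem_semi _ _ _ _ b

theorem un_xa_mem_Ub (hyp : Sp4Hyp ζ xa xb ta ha tb hb Ka Kb) (a : F) : xa a ∈ un_UbSub hyp :=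
  un_x_mem_semi _ _ _ _ a

/-- `xa a * xb b * (xa a)⁻¹ = v * xb b` with `v ∈ V` -/
theorem un_xa_conj_xb (hyp : Sp4Hyp ζ xa xb ta ha tb hb Ka Kb) (a b : F) :
    ∃ v ∈ un_VSub hyp, xa a * xb b * (xa a)⁻¹ = v * xb b := by
  obtain ⟨c, d, h⟩ := comm4 hyp a b
  refine ⟨_, (un_mem_VSub hyp _).2 ⟨c, d, rfl⟩, ?_⟩
  rw [← h]; group

/-- `xb b * xa a * (xb b)⁻¹ = v * xa a` with `v ∈ V` -/
theorem un_xb_conj_xa (hyp : Sp4Hyp ζ xa xb ta ha tb hb Ka Kb) (a b : F) :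
    ∃ v ∈ un_VSub hyp, xb b * xa a * (xb b)⁻¹ = v * xa a := by
  obtain ⟨c, d, h⟩ := comm4 hyp a b
  refine ⟨_, (un_VSub hyp).inv_mem ((un_mem_VSub hyp _).2 ⟨c, d, rfl⟩), ?_⟩
  rw [← h]; group

/-- `X_α` normalises `U^α` -/
theorem un_xa_conj_Ua (hyp : Sp4Hyp ζ xa xb ta ha tb hb Ka Kb) (a : F) {w : G}
    (hw : w ∈ un_UaSub hyp) : xa a * w * (xa a)⁻¹ ∈ un_UaSub hyp := by
  obtain ⟨b, v, hv, rfl⟩ := hw
  obtain ⟨v', hv', h⟩ := un_xa_conj_xb hyp a b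
  rw [un_conj_mul₂, h]
  exact (un_UaSub hyp).mul_mem
    ((un_UaSub hyp).mul_mem (un_V_le_Ua hyp hv') (un_xb_mem_Ua hyp b))
    (un_V_le_Ua hyp (un_xa_conj_V hyp a hv))

/-- `X_β` normalises `U^β` -/
theorem un_xb_conj_Ub (hyp : Sp4Hyp ζ xa xb ta ha tb hb Ka Kb) (b : F) {w : G}
    (hw : w ∈ un_UbSub hyp) : xb b * w * (xb b)⁻¹ ∈ un_UbSub hyp := by
  obtain ⟨a, v, hv, rfl⟩ := hw
  obtain ⟨v', hv', h⟩ := un_xb_conj_xa hyp a b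
  rw [un_conj_mul₂, h, (un_xb_comm_V hyp b hv).mul_inv_cancel]
  exact (un_UbSub hyp).mul_mem
    ((un_UbSub hyp).mul_mem (un_V_le_Ub hyp hv') (un_xa_mem_Ub hyp a))
    (un_V_le_Ub hyp hv)

/-- `U = X_α U^α` -/
def un_USub (hyp : Sp4Hyp ζ xa xb ta ha tb hb Ka Kb) : Subgroup G :=
  un_semi (un_UaSub hyp) xa hyp.adda (fun a _ hw => un_xa_conj_Ua hyp a hw)

theorem un_mem_USub (hyp : Sp4Hyp ζ xa xb ta ha tb hb Ka Kb) (g : G) :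
    g ∈ un_USub hyp ↔ ∃ a b c d : F, g = xa a * xb b * xab xa tb c * x2ab xb ta d := by
  constructor
  · rintro ⟨a, w, hw, rfl⟩
    obtain ⟨b, c, d, rfl⟩ := (un_mem_UaSub hyp w).1 hw
    exact ⟨a, b, c, d, by simp only [mul_assoc]⟩
  · rintro ⟨a, b, c, d, rfl⟩
    exact ⟨a, _, (un_mem_UaSub hyp _).2 ⟨b, c, d, rfl⟩, by simp only [mul_assoc]⟩

/-! ### the subgroups with the prescribed carriers -/

/-- `U^α = X_β X_{α+β} X_{2α+β}` -/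
def UaSub (hyp : Sp4Hyp ζ xa xb ta ha tb hb Ka Kb) : Subgroup G where
  carrier := {g | ∃ b c d : F, g = xb b * xab xa tb c * x2ab xb ta d}
  mul_mem' := by
    intro g g' hg hg'
    exact (un_mem_UaSub hyp _).1
      ((un_UaSub hyp).mul_mem ((un_mem_UaSub hyp g).2 hg) ((un_mem_UaSub hyp g').2 hg'))
  one_mem' := (un_mem_UaSub hyp _).1 (un_UaSub hyp).one_mem
  inv_mem' := by
    intro g hg
    exact (un_mem_UaSub hyp _).1 ((un_UaSub hyp).inv_mem ((un_mem_UaSub hyp g).2 hg))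

/-- `U^β = X_α X_{α+β} X_{2α+β}` -/
def UbSub (hyp : Sp4Hyp ζ xa xb ta ha tb hb Ka Kb) : Subgroup G where
  carrier := {g | ∃ a c d : F, g = xa a * xab xa tb c * x2ab xb ta d}
  mul_mem' := by
    intro g g' hg hg'
    exact (un_mem_UbSub hyp _).1
      ((un_UbSub hyp).mul_mem ((un_mem_UbSub hyp g).2 hg) ((un_mem_UbSub hyp g').2 hg'))
  one_mem' := (un_mem_UbSub hyp _).1 (un_UbSub hyp).one_mem
  inv_mem' := by
    intro g hg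
    exact (un_mem_UbSub hyp _).1 ((un_UbSub hyp).inv_mem ((un_mem_UbSub hyp g).2 hg))

/-- `U = X_α X_β X_{α+β} X_{2α+β}` -/
def USub (hyp : Sp4Hyp ζ xa xb ta ha tb hb Ka Kb) : Subgroup G where
  carrier := {g | ∃ a b c d : F, g = xa a * xb b * xab xa tb c * x2ab xb ta d}
  mul_mem' := by
    intro g g' hg hg'
    exact (un_mem_USub hyp _).1
      ((un_USub hyp).mul_mem ((un_mem_USub hyp g).2 hg) ((un_mem_USub hyp g').2 hg'))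
  one_mem' := (un_mem_USub hyp _).1 (un_USub hyp).one_mem
  inv_mem' := by
    intro g hg
    exact (un_mem_USub hyp _).1 ((un_USub hyp).inv_mem ((un_mem_USub hyp g).2 hg))

theorem mem_UaSub (hyp : Sp4Hyp ζ xa xb ta ha tb hb Ka Kb) (g : G) :
    g ∈ UaSub hyp ↔ ∃ b c d : F, g = xb b * xab xa tb c * x2ab xb ta d := Iff.rfl

theorem mem_UbSub (hyp : Sp4Hyp ζ xa xb ta ha tb hb Ka Kb) (g : G) :
    g ∈ UbSub hyp ↔ ∃ a c d : F, g = xa a * xab xa tb c * x2ab xb ta d := Iff.rfl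

theorem mem_USub (hyp : Sp4Hyp ζ xa xb ta ha tb hb Ka Kb) (g : G) :
    g ∈ USub hyp ↔ ∃ a b c d : F, g = xa a * xb b * xab xa tb c * x2ab xb ta d := Iff.rfl

theorem un_UaSub_eq (hyp : Sp4Hyp ζ xa xb ta ha tb hb Ka Kb) : UaSub hyp = un_UaSub hyp := by
  ext g; exact (un_mem_UaSub hyp g).symm

theorem un_UbSub_eq (hyp : Sp4Hyp ζ xa xb ta ha tb hb Ka Kb) : UbSub hyp = un_UbSub hyp := by
  ext g; exact (un_mem_UbSub hyp g).symm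

theorem un_USub_eq (hyp : Sp4Hyp ζ xa xb ta ha tb hb Ka Kb) : USub hyp = un_USub hyp := by
  ext g; exact (un_mem_USub hyp g).symm

theorem card_USub_le (hyp : Sp4Hyp ζ xa xb ta ha tb hb Ka Kb) :
    Finite (USub hyp) ∧ Nat.card (USub hyp) ≤ Fintype.card F ^ 4 := by
  let f : F × F × F × F → G := fun p => xa p.1 * xb p.2.1 * xab xa tb p.2.2.1 * x2ab xb ta p.2.2.2
  have hU : ((USub hyp : Subgroup G) : Set G) = Set.range f := by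
    ext g
    constructor
    · rintro ⟨a, b, c, d, rfl⟩
      exact ⟨(a, b, c, d), rfl⟩
    · rintro ⟨⟨a, b, c, d⟩, rfl⟩
      exact ⟨a, b, c, d, rfl⟩
  have hfin : ((USub hyp : Subgroup G) : Set G).Finite := by
    rw [hU]; exact Set.finite_range f
  refine ⟨hfin, ?_⟩
  have h1 : Nat.card (USub hyp) = ((USub hyp : Subgroup G) : Set G).ncard := rfl
  rw [h1, hU]
  have h2 : (Set.range f).ncard ≤ Nat.card (F × F × F × F) := by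
    rw [← Set.image_univ]
    calc (f '' Set.univ).ncard ≤ (Set.univ : Set (F × F × F × F)).ncard :=
          Set.ncard_image_le Set.finite_univ
      _ = Nat.card (F × F × F × F) := Set.ncard_univ _
  refine h2.trans (le_of_eq ?_)
  rw [Nat.card_eq_fintype_card]
  simp only [Fintype.card_prod]
  ring

theorem xa_mem_USub (hyp : Sp4Hyp ζ xa xb ta ha tb hb Ka Kb) (a : F) : xa a ∈ USub hyp := by
  rw [un_USub_eq]
  exact un_x_mem_semi _ _ _ _ a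

theorem UaSub_le_USub (hyp : Sp4Hyp ζ xa xb ta ha tb hb Ka Kb) : UaSub hyp ≤ USub hyp := by
  rw [un_USub_eq, un_UaSub_eq]
  exact un_le_semi _ _ _ _

theorem xb_mem_USub (hyp : Sp4Hyp ζ xa xb ta ha tb hb Ka Kb) (b : F) : xb b ∈ USub hyp := by
  apply UaSub_le_USub hyp
  rw [un_UaSub_eq]
  exact un_xb_mem_Ua hyp b

theorem UbSub_le_USub (hyp : Sp4Hyp ζ xa xb ta ha tb hb Ka Kb) : UbSub hyp ≤ USub hyp := by
  rintro _ ⟨a, c, d, rfl⟩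
  refine ⟨a, 0, c, d, ?_⟩
  rw [spr_xb_zero hyp, mul_one]

/-- `U = U^α X_α = X_α U^α`, `U = U^β X_β = X_β U^β` -/
theorem USub_eq_mul_Ua (hyp : Sp4Hyp ζ xa xb ta ha tb hb Ka Kb) {u : G} (hu : u ∈ USub hyp) :
    ∃ a : F, ∃ w ∈ UaSub hyp, u = xa a * w := by
  obtain ⟨a, b, c, d, rfl⟩ := hu
  exact ⟨a, _, ⟨b, c, d, rfl⟩, by simp only [mul_assoc]⟩

theorem USub_eq_Ua_mul (hyp : Sp4Hyp ζ xa xb ta ha tb hb Ka Kb) {u : G} (hu : u ∈ USub hyp) :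
    ∃ w ∈ UaSub hyp, ∃ a : F, u = w * xa a := by
  obtain ⟨a, w, hw, rfl⟩ := USub_eq_mul_Ua hyp hu
  refine ⟨xa a * w * (xa a)⁻¹, ?_, a, by group⟩
  rw [un_UaSub_eq] at hw ⊢
  exact un_xa_conj_Ua hyp a hw

theorem USub_eq_Ub_mul (hyp : Sp4Hyp ζ xa xb ta ha tb hb Ka Kb) {u : G} (hu : u ∈ USub hyp) :
    ∃ w ∈ UbSub hyp, ∃ b : F, u = w * xb b := by
  obtain ⟨a, b, c, d, rfl⟩ := hu
  refine ⟨_, ⟨a, c, d, rfl⟩, b, ?_⟩
  have h := (un_xb_comm_V hyp b ((un_mem_VSub hyp _).2 ⟨c, d, rfl⟩)).eq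
  simp only [mul_assoc] at h ⊢
  rw [h]

theorem USub_eq_mul_Ub (hyp : Sp4Hyp ζ xa xb ta ha tb hb Ka Kb) {u : G} (hu : u ∈ USub hyp) :
    ∃ b : F, ∃ w ∈ UbSub hyp, u = xb b * w := by
  obtain ⟨w, hw, b, rfl⟩ := USub_eq_Ub_mul hyp hu
  refine ⟨b, xb (-b) * w * (xb (-b))⁻¹, ?_, by rw [x_neg xb hyp.addb]; group⟩
  rw [un_UbSub_eq] at hw ⊢
  exact un_xb_conj_Ub hyp (-b) hw

/-- the torus normalises `U`, `U^α`, `U^β` -/
theorem torus_conj_USub (hyp : Sp4Hyp ζ xa xb ta ha tb hb Ka Kb) {T u : G} (hT : T ∈ torus ha hb)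
    (hu : u ∈ USub hyp) : T * u * T⁻¹ ∈ USub hyp := by
  obtain ⟨i, j, rfl⟩ := hT
  obtain ⟨a, b, c, d, rfl⟩ := hu
  rw [un_conj_mul₄, torus_conj_xa hyp, torus_conj_xb hyp, torus_conj_xab hyp, torus_conj_x2ab hyp]
  exact ⟨_, _, _, _, rfl⟩

theorem torus_conj_UaSub (hyp : Sp4Hyp ζ xa xb ta ha tb hb Ka Kb) {T u : G} (hT : T ∈ torus ha hb)
    (hu : u ∈ UaSub hyp) : T * u * T⁻¹ ∈ UaSub hyp := by
  obtain ⟨i, j, rfl⟩ := hT
  obtain ⟨b, c, d, rfl⟩ := hu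
  rw [un_conj_mul₃, torus_conj_xb hyp, torus_conj_xab hyp, torus_conj_x2ab hyp]
  exact ⟨_, _, _, rfl⟩

theorem torus_conj_UbSub (hyp : Sp4Hyp ζ xa xb ta ha tb hb Ka Kb) {T u : G} (hT : T ∈ torus ha hb)
    (hu : u ∈ UbSub hyp) : T * u * T⁻¹ ∈ UbSub hyp := by
  obtain ⟨i, j, rfl⟩ := hT
  obtain ⟨a, c, d, rfl⟩ := hu
  rw [un_conj_mul₃, torus_conj_xa hyp, torus_conj_xab hyp, torus_conj_x2ab hyp]
  exact ⟨_, _, _, rfl⟩

/-! ### membership of the root elements -/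

theorem un_xb_mem_UaSub (hyp : Sp4Hyp ζ xa xb ta ha tb hb Ka Kb) (b : F) : xb b ∈ UaSub hyp :=
  ⟨b, 0, 0, by rw [spr_xab_zero hyp, spr_x2ab_zero hyp, mul_one, mul_one]⟩

theorem un_xab_mem_UaSub (hyp : Sp4Hyp ζ xa xb ta ha tb hb Ka Kb) (c : F) :
    xab xa tb c ∈ UaSub hyp :=
  ⟨0, c, 0, by rw [spr_xb_zero hyp, spr_x2ab_zero hyp, mul_one, one_mul]⟩

theorem un_x2ab_mem_UaSub (hyp : Sp4Hyp ζ xa xb ta ha tb hb Ka Kb) (d : F) :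
    x2ab xb ta d ∈ UaSub hyp :=
  ⟨0, 0, d, by rw [spr_xb_zero hyp, spr_xab_zero hyp, one_mul, one_mul]⟩

theorem un_xa_mem_UbSub (hyp : Sp4Hyp ζ xa xb ta ha tb hb Ka Kb) (a : F) : xa a ∈ UbSub hyp :=
  ⟨a, 0, 0, by rw [spr_xab_zero hyp, spr_x2ab_zero hyp, mul_one, mul_one]⟩

theorem un_xab_mem_UbSub (hyp : Sp4Hyp ζ xa xb ta ha tb hb Ka Kb) (c : F) :
    xab xa tb c ∈ UbSub hyp :=
  ⟨0, c, 0, by rw [spr_xa_zero hyp, spr_x2ab_zero hyp, mul_one, one_mul]⟩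

theorem un_x2ab_mem_UbSub (hyp : Sp4Hyp ζ xa xb ta ha tb hb Ka Kb) (d : F) :
    x2ab xb ta d ∈ UbSub hyp :=
  ⟨0, 0, d, by rw [spr_xa_zero hyp, spr_xab_zero hyp, one_mul, one_mul]⟩

theorem un_xab_mem_USub (hyp : Sp4Hyp ζ xa xb ta ha tb hb Ka Kb) (c : F) :
    xab xa tb c ∈ USub hyp :=
  UaSub_le_USub hyp (un_xab_mem_UaSub hyp c)

theorem un_x2ab_mem_USub (hyp : Sp4Hyp ζ xa xb ta ha tb hb Ka Kb) (d : F) :
    x2ab xb ta d ∈ USub hyp :=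
  UaSub_le_USub hyp (un_x2ab_mem_UaSub hyp d)

/-- `ta^{±1}` normalises `U^α`, `tb^{±1}` normalises `U^β` -/
theorem ta_conj_UaSub (hyp : Sp4Hyp ζ xa xb ta ha tb hb Ka Kb) {w : G} (hw : w ∈ UaSub hyp) :
    ta * w * ta⁻¹ ∈ UaSub hyp := by
  obtain ⟨b, c, d, rfl⟩ := hw
  obtain ⟨c', hc'⟩ := ta_xab hyp c
  obtain ⟨d', hd'⟩ := ta_x2ab hyp d
  rw [un_conj_mul₃, hc', hd']
  exact (UaSub hyp).mul_mem ((UaSub hyp).mul_mem (un_x2ab_mem_UaSub hyp b)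
    (un_xab_mem_UaSub hyp c')) (un_xb_mem_UaSub hyp d')

theorem ta_inv_conj_UaSub (hyp : Sp4Hyp ζ xa xb ta ha tb hb Ka Kb) {w : G} (hw : w ∈ UaSub hyp) :
    ta⁻¹ * w * ta ∈ UaSub hyp := by
  obtain ⟨b, c, d, rfl⟩ := hw
  obtain ⟨b', hb'⟩ := ta_inv_xb hyp b
  obtain ⟨c', hc'⟩ := ta_inv_xab hyp c
  have hd' : ta⁻¹ * x2ab xb ta d * ta = xb d := by unfold x2ab; group
  have e : ta⁻¹ * (xb b * xab xa tb c * x2ab xb ta d) * ta =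
      (ta⁻¹ * xb b * ta) * (ta⁻¹ * xab xa tb c * ta) * (ta⁻¹ * x2ab xb ta d * ta) := by group
  rw [e, hb', hc', hd']
  exact (UaSub hyp).mul_mem ((UaSub hyp).mul_mem (un_x2ab_mem_UaSub hyp b')
    (un_xab_mem_UaSub hyp c')) (un_xb_mem_UaSub hyp d)

theorem tb_conj_UbSub (hyp : Sp4Hyp ζ xa xb ta ha tb hb Ka Kb) {w : G} (hw : w ∈ UbSub hyp) :
    tb * w * tb⁻¹ ∈ UbSub hyp := by
  obtain ⟨a, c, d, rfl⟩ := hw
  obtain ⟨c', hc'⟩ := tb_xab hyp c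
  obtain ⟨d', hd'⟩ := tb_x2ab hyp d
  rw [un_conj_mul₃, hc', hd']
  exact (UbSub hyp).mul_mem ((UbSub hyp).mul_mem (un_xab_mem_UbSub hyp a)
    (un_xa_mem_UbSub hyp c')) (un_x2ab_mem_UbSub hyp d')

theorem tb_inv_conj_UbSub (hyp : Sp4Hyp ζ xa xb ta ha tb hb Ka Kb) {w : G} (hw : w ∈ UbSub hyp) :
    tb⁻¹ * w * tb ∈ UbSub hyp := by
  obtain ⟨a, c, d, rfl⟩ := hw
  obtain ⟨a', ha'⟩ := tb_inv_xa hyp a
  obtain ⟨d', hd'⟩ := tb_inv_x2ab hyp d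
  have hc' : tb⁻¹ * xab xa tb c * tb = xa c := by unfold xab; group
  have e : tb⁻¹ * (xa a * xab xa tb c * x2ab xb ta d) * tb =
      (tb⁻¹ * xa a * tb) * (tb⁻¹ * xab xa tb c * tb) * (tb⁻¹ * x2ab xb ta d * tb) := by group
  rw [e, ha', hc', hd']
  exact (UbSub hyp).mul_mem ((UbSub hyp).mul_mem (un_xab_mem_UbSub hyp a')
    (un_xa_mem_UbSub hyp c)) (un_x2ab_mem_UbSub hyp d')

end abstract

end Cfsg.Agent.Sp4Pres
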