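import Cfsg.Agent.Sp4Pres.Torus

/-!
# Presentations of `Sp₄(F)`: the root elements `xab`, `x2ab` and the Weyl action (piece Roots)
-/

set_option autoImplicit false

namespace Cfsg.Agent.Sp4Pres

open Cfsg.Agent.SL2Pres

section abstract

variable {G : Type*} [Group G] {F : Type*} [Field F] [Fintype F]
  {ζ : Fˣ} {xa xb : F → G} {ta ha tb hb : G} {Ka Kb : ℕ}

omit [Fintype F] in
theorem xab_add (hyp : Sp4Hyp ζ xa xb ta ha tb hb Ka Kb) (c d : F) :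
    xab xa tb (c + d) = xab xa tb c * xab xa tb d := by
  unfold xab
  rw [hyp.adda]; group

omit [Fintype F] in
theorem x2ab_add (hyp : Sp4Hyp ζ xa xb ta ha tb hb Ka Kb) (c d : F) :
    x2ab xb ta (c + d) = x2ab xb ta c * x2ab xb ta d := by
  unfold x2ab
  rw [hyp.addb]; group

omit [Fintype F] in
theorem torus_conj_xab (hyp : Sp4Hyp ζ xa xb ta ha tb hb Ka Kb) (i j : ℤ) (c : F) :
    (ha ^ i * hb ^ j) * xab xa tb c * (ha ^ i * hb ^ j)⁻¹ = xab xa tb (((ζ ^ j : Fˣ) : F) * c) := by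
  unfold xab
  have e : (ha ^ i * hb ^ j) * (tb * xa c * tb⁻¹) * (ha ^ i * hb ^ j)⁻¹ =
      tb * ((tb⁻¹ * (ha ^ i * hb ^ j) * tb) * xa c * (tb⁻¹ * (ha ^ i * hb ^ j) * tb)⁻¹) * tb⁻¹ := by
    group
  rw [e, tb_inv_torus hyp, torus_conj_xa hyp]
  congr 6
  ring

omit [Fintype F] in
theorem torus_conj_x2ab (hyp : Sp4Hyp ζ xa xb ta ha tb hb Ka Kb) (i j : ℤ) (c : F) :
    (ha ^ i * hb ^ j) * x2ab xb ta c * (ha ^ i * hb ^ j)⁻¹ =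
      x2ab xb ta (((ζ ^ (2 * i) : Fˣ) : F) * c) := by
  unfold x2ab
  have e : (ha ^ i * hb ^ j) * (ta * xb c * ta⁻¹) * (ha ^ i * hb ^ j)⁻¹ =
      ta * ((ta⁻¹ * (ha ^ i * hb ^ j) * ta) * xb c * (ta⁻¹ * (ha ^ i * hb ^ j) * ta)⁻¹) * ta⁻¹ := by
    group
  rw [e, ta_inv_torus hyp, torus_conj_xb hyp]
  congr 6
  ring

omit [Fintype F] in
/-- `tb⁻¹ ta tb` commutes with `ha` -/
theorem rt_N_ha (hyp : Sp4Hyp ζ xa xb ta ha tb hb Ka Kb) :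
    (tb⁻¹ * ta * tb) * ha = ha * (tb⁻¹ * ta * tb) := by
  have h1 := tb_torus hyp 1 0
  have h2 := ta_torus hyp 1 2
  have h3 := tb_inv_torus hyp 1 2
  norm_num at h1 h2 h3
  have e : (tb⁻¹ * ta * tb) * ha * (tb⁻¹ * ta * tb)⁻¹ =
      tb⁻¹ * (ta * (tb * ha * tb⁻¹) * ta⁻¹) * tb := by group
  have e2 : (tb⁻¹ * ta * tb) * ha * (tb⁻¹ * ta * tb)⁻¹ = ha := by
    rw [e, h1, h2, h3]
  rw [← mul_inv_eq_iff_eq_mul, e2]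

omit [Fintype F] in
/-- `ta⁻¹ tb ta` commutes with `hb` -/
theorem rt_N'_hb (hyp : Sp4Hyp ζ xa xb ta ha tb hb Ka Kb) :
    (ta⁻¹ * tb * ta) * hb = hb * (ta⁻¹ * tb * ta) := by
  have h1 := ta_torus hyp 0 1
  have h2 := tb_torus hyp 1 1
  have h3 := ta_inv_torus hyp 1 1
  norm_num at h1 h2 h3
  have e : (ta⁻¹ * tb * ta) * hb * (ta⁻¹ * tb * ta)⁻¹ =
      ta⁻¹ * (tb * (ta * hb * ta⁻¹) * tb⁻¹) * ta := by group
  have e2 : (ta⁻¹ * tb * ta) * hb * (ta⁻¹ * tb * ta)⁻¹ = hb := by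
    rw [e, h1, h2, h3]
  rw [← mul_inv_eq_iff_eq_mul, e2]

omit [Fintype F] in
theorem rt_inv_conj (N T y : G) (hN2 : N * N = T) :
    N⁻¹ * y * N = T⁻¹ * (N * y * N⁻¹) * T := by
  subst hN2; group

/-- `tb⁻¹ ta tb` (a lift of `s_{α+β}`) normalises `X_α`, with a uniform multiplier -/
theorem rt_s1 (hyp : Sp4Hyp ζ xa xb ta ha tb hb Ka Kb) :
    ∃ e : F, ∀ c, (tb⁻¹ * ta * tb) * xa c * (tb⁻¹ * ta * tb)⁻¹ = xa (e * c) := by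
  obtain ⟨e, he⟩ := hyp.s1
  exact ⟨e, spread_conj ζ hyp.hζ xa hyp.adda ha hyp.ha_xa _ (rt_N_ha hyp) e he⟩

/-- `ta⁻¹ tb ta` (a lift of `s_{2α+β}`) normalises `X_β`, with a uniform multiplier -/
theorem rt_s2 (hyp : Sp4Hyp ζ xa xb ta ha tb hb Ka Kb) :
    ∃ e : F, ∀ c, (ta⁻¹ * tb * ta) * xb c * (ta⁻¹ * tb * ta)⁻¹ = xb (e * c) := by
  obtain ⟨e, he⟩ := hyp.s2
  exact ⟨e, spread_conj ζ hyp.hζ xb hyp.addb hb hyp.hb_xb _ (rt_N'_hb hyp) e he⟩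

theorem s1_all (hyp : Sp4Hyp ζ xa xb ta ha tb hb Ka Kb) (c : F) :
    ∃ c', (tb⁻¹ * ta * tb) * xa c * (tb⁻¹ * ta * tb)⁻¹ = xa c' := by
  obtain ⟨e, he⟩ := rt_s1 hyp
  exact ⟨_, he c⟩

theorem s2_all (hyp : Sp4Hyp ζ xa xb ta ha tb hb Ka Kb) (c : F) :
    ∃ c', (ta⁻¹ * tb * ta) * xb c * (ta⁻¹ * tb * ta)⁻¹ = xb c' := by
  obtain ⟨e, he⟩ := rt_s2 hyp
  exact ⟨_, he c⟩

theorem s1_inv_all (hyp : Sp4Hyp ζ xa xb ta ha tb hb Ka Kb) (c : F) :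
    ∃ c', (tb⁻¹ * ta * tb)⁻¹ * xa c * (tb⁻¹ * ta * tb) = xa c' := by
  obtain ⟨e, he⟩ := rt_s1 hyp
  obtain ⟨k, hk⟩ := hyp.ta_sq
  -- `N² = tb⁻¹ ta² tb` lies in the torus
  have h1 : tb⁻¹ * ta ^ 2 * tb = ha ^ (k : ℤ) * hb ^ (2 * (k : ℤ) - 0) := by
    have := tb_inv_torus hyp (k : ℤ) 0
    rw [zpow_zero, mul_one] at this
    rw [hk, ← zpow_natCast ha k]; exact this
  have hN2 : (tb⁻¹ * ta * tb) * (tb⁻¹ * ta * tb) = ha ^ (k : ℤ) * hb ^ (2 * (k : ℤ) - 0) := by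
    rw [← h1, pow_two]; group
  rw [rt_inv_conj _ _ _ hN2, he]
  have := torus_conj_xa hyp (-(k : ℤ)) (-(2 * (k : ℤ) - 0)) (e * c)
  rw [← tor_inv hyp, inv_inv] at this
  exact ⟨_, this⟩

theorem s2_inv_all (hyp : Sp4Hyp ζ xa xb ta ha tb hb Ka Kb) (c : F) :
    ∃ c', (ta⁻¹ * tb * ta)⁻¹ * xb c * (ta⁻¹ * tb * ta) = xb c' := by
  obtain ⟨e, he⟩ := rt_s2 hyp
  obtain ⟨k, hk⟩ := hyp.tb_sq
  have h1 : ta⁻¹ * tb ^ 2 * ta = ha ^ ((k : ℤ) - 0) * hb ^ (k : ℤ) := by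
    have := ta_inv_torus hyp 0 (k : ℤ)
    rw [zpow_zero, one_mul] at this
    rw [hk, ← zpow_natCast hb k]; exact this
  have hN2 : (ta⁻¹ * tb * ta) * (ta⁻¹ * tb * ta) = ha ^ ((k : ℤ) - 0) * hb ^ (k : ℤ) := by
    rw [← h1, pow_two]; group
  rw [rt_inv_conj _ _ _ hN2, he]
  have := torus_conj_xb hyp (-((k : ℤ) - 0)) (-(k : ℤ)) (e * c)
  rw [← tor_inv hyp, inv_inv] at this
  exact ⟨_, this⟩

/-! ### the Weyl action on the other positive root groups -/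

theorem ta_xab (hyp : Sp4Hyp ζ xa xb ta ha tb hb Ka Kb) (c : F) :
    ∃ c', ta * xab xa tb c * ta⁻¹ = xab xa tb c' := by
  obtain ⟨c', hc'⟩ := s1_all hyp c
  refine ⟨c', ?_⟩
  unfold xab
  rw [← hc']; group

theorem ta_inv_xab (hyp : Sp4Hyp ζ xa xb ta ha tb hb Ka Kb) (c : F) :
    ∃ c', ta⁻¹ * xab xa tb c * ta = xab xa tb c' := by
  obtain ⟨c', hc'⟩ := s1_inv_all hyp c
  refine ⟨c', ?_⟩
  unfold xab
  rw [← hc']; group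

omit [Fintype F] in
theorem ta_x2ab (hyp : Sp4Hyp ζ xa xb ta ha tb hb Ka Kb) (c : F) :
    ∃ c', ta * x2ab xb ta c * ta⁻¹ = xb c' := by
  obtain ⟨k, hk⟩ := hyp.ta_sq
  have h := torus_conj_xb hyp (k : ℤ) 0 c
  rw [zpow_zero, mul_one, zpow_natCast, ← hk] at h
  have e : ta * x2ab xb ta c * ta⁻¹ = ta ^ 2 * xb c * (ta ^ 2)⁻¹ := by
    unfold x2ab; rw [pow_two]; group
  rw [e, h]
  exact ⟨_, rfl⟩

omit [Fintype F] in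
theorem ta_inv_xb (hyp : Sp4Hyp ζ xa xb ta ha tb hb Ka Kb) (c : F) :
    ∃ c', ta⁻¹ * xb c * ta = x2ab xb ta c' := by
  obtain ⟨k, hk⟩ := hyp.ta_sq
  have h := torus_conj_xb hyp (-(k : ℤ)) 0 c
  rw [zpow_zero, mul_one, zpow_neg, zpow_natCast, ← hk] at h
  refine ⟨((ζ ^ (2 * 0 - 2 * -(k : ℤ)) : Fˣ) : F) * c, ?_⟩
  unfold x2ab
  rw [← h, pow_two]; group

theorem tb_x2ab (hyp : Sp4Hyp ζ xa xb ta ha tb hb Ka Kb) (c : F) :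
    ∃ c', tb * x2ab xb ta c * tb⁻¹ = x2ab xb ta c' := by
  obtain ⟨c', hc'⟩ := s2_all hyp c
  refine ⟨c', ?_⟩
  unfold x2ab
  rw [← hc']; group

theorem tb_inv_x2ab (hyp : Sp4Hyp ζ xa xb ta ha tb hb Ka Kb) (c : F) :
    ∃ c', tb⁻¹ * x2ab xb ta c * tb = x2ab xb ta c' := by
  obtain ⟨c', hc'⟩ := s2_inv_all hyp c
  refine ⟨c', ?_⟩
  unfold x2ab
  rw [← hc']; group

omit [Fintype F] in
theorem tb_xab (hyp : Sp4Hyp ζ xa xb ta ha tb hb Ka Kb) (c : F) :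
    ∃ c', tb * xab xa tb c * tb⁻¹ = xa c' := by
  obtain ⟨k, hk⟩ := hyp.tb_sq
  have h := torus_conj_xa hyp 0 (k : ℤ) c
  rw [zpow_zero, one_mul, zpow_natCast, ← hk] at h
  have e : tb * xab xa tb c * tb⁻¹ = tb ^ 2 * xa c * (tb ^ 2)⁻¹ := by
    unfold xab; rw [pow_two]; group
  rw [e, h]
  exact ⟨_, rfl⟩

omit [Fintype F] in
theorem tb_inv_xa (hyp : Sp4Hyp ζ xa xb ta ha tb hb Ka Kb) (c : F) :
    ∃ c', tb⁻¹ * xa c * tb = xab xa tb c' := by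
  obtain ⟨k, hk⟩ := hyp.tb_sq
  have h := torus_conj_xa hyp 0 (-(k : ℤ)) c
  rw [zpow_zero, one_mul, zpow_neg, zpow_natCast, ← hk] at h
  refine ⟨((ζ ^ (2 * 0 - -(k : ℤ)) : Fˣ) : F) * c, ?_⟩
  unfold xab
  rw [← h, pow_two]; group

end abstract

end Cfsg.Agent.Sp4Pres
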