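import Cfsg.Agent.SL2Pres.Fd

/-!
# Spreading lemmas for presentations of rank-2 groups (helper4)

Abstract "spreading" tools: a relation known for ONE pair of parameters of two root-group
parametrisations `x y : F → G` is spread to ALL parameters by conjugating with torus elements and
using (bi)additivity.

* `AddGen κ`: the only additive subgroups of `F` that are stable under multiplication by `κ` are
  `0`-ish and `⊤` (precisely: such a subgroup containing a nonzero element is `⊤`);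
  `addGen_zeta_sq`, `addGen_zeta`, `addGen_of_pow_eq`.
* `h4s_spread1`: one-parameter spreading.
* `h4s_spread2`: two-parameter spreading.
* `h4s_action`: spreading of the action of an endomorphism (conjugation by a torus or Weyl element)
  on a root group.
* `h4s_comm_P_add_left/right`: the set-level commutator predicate `⁅x a, y b⁆ ∈ Z` is biadditive
  when `Z` is normalised by the two root groups.
* `h4s_comm_spread`: the resulting spreading statement for commutators.
-/

set_option autoImplicit false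

namespace Cfsg.Agent.Sp4Pres

open Cfsg.Agent.SL2Pres

open scoped commutatorElement

section field

variable {F : Type*} [Field F] [Fintype F]

/-- `κ` generates `F` additively: an additive subgroup stable under `κ·` and containing a nonzero
element is everything. -/
def AddGen (κ : F) : Prop :=
  ∀ S : AddSubgroup F, (∀ a ∈ S, κ * a ∈ S) → ∀ c ∈ S, c ≠ 0 → S = ⊤

omit [Fintype F] in
theorem addGen_of_pow {κ : F} (k : ℕ) (h : AddGen (κ ^ k)) : AddGen κ := by
  intro S hS c hc hc0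
  have key : ∀ (n : ℕ) (a : F), a ∈ S → κ ^ n * a ∈ S := by
    intro n
    induction n with
    | zero => intro a ha; simpa using ha
    | succ n ih =>
      intro a ha
      rw [pow_succ', mul_assoc]
      exact hS _ (ih a ha)
  exact h S (key k) c hc hc0

omit [Fintype F] in
theorem addGen_of_pow_eq {κ κ' : F} (k : ℕ) (hk : κ ^ k = κ') (h : AddGen κ') : AddGen κ :=
  addGen_of_pow k (hk ▸ h)

/-- the square of a generator of `Fˣ` generates `F` additively (sums of two squares). -/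
theorem addGen_zeta_sq (ζ : Fˣ) (hζ : ∀ a : Fˣ, a ∈ Subgroup.zpowers ζ) : AddGen ((ζ : F) ^ 2) := by
  intro S hS c hc hc0
  -- all `ζ^(2n) * c ∈ S`
  have h1 : ∀ n : ℕ, ((ζ : F) ^ 2) ^ n * c ∈ S := by
    intro n
    induction n with
    | zero => simpa using hc
    | succ n ih =>
      rw [pow_succ', mul_assoc]
      exact hS _ ih
  have h2 : ∀ b : F, b ^ 2 * c ∈ S := by
    intro b
    by_cases hb : b = 0
    · subst hb
      simp
    · obtain ⟨n, hn⟩ := fd_exists_pow' ζ hζ b hb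
      have := h1 n
      rwa [← pow_mul, mul_comm 2 n, pow_mul, hn] at this
  rw [eq_top_iff]
  intro a _
  obtain ⟨b, d, hbd⟩ := fd_sum_two_sq (a / c)
  have : a = b ^ 2 * c + d ^ 2 * c := by
    rw [← add_mul, ← hbd, div_mul_cancel₀ _ hc0]
  rw [this]
  exact S.add_mem (h2 b) (h2 d)

theorem addGen_zeta (ζ : Fˣ) (hζ : ∀ a : Fˣ, a ∈ Subgroup.zpowers ζ) : AddGen (ζ : F) :=
  addGen_of_pow 2 (addGen_zeta_sq ζ hζ)

/-- any nonzero `κ` some power of which is `ζ ^ 2` generates additively, e.g. `ζ⁻¹`, `ζ⁻²`. -/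
theorem addGen_zeta_inv (ζ : Fˣ) (hζ : ∀ a : Fˣ, a ∈ Subgroup.zpowers ζ) :
    AddGen ((ζ : F)⁻¹) := by
  -- `(ζ⁻¹)^(q-2) = ζ`
  have hq : 2 ≤ Fintype.card F := Fintype.one_lt_card
  refine addGen_of_pow_eq (Fintype.card F - 2) ?_ (addGen_zeta ζ hζ)
  have h1 : (ζ : F) ^ (Fintype.card F - 1) = 1 :=
    FiniteField.pow_card_sub_one_eq_one _ ζ.ne_zero
  have h2 : (ζ : F) ^ (Fintype.card F - 2) * ζ = 1 := by
    rw [← pow_succ]
    have : Fintype.card F - 2 + 1 = Fintype.card F - 1 := by omega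
    rw [this, h1]
  rw [inv_pow]
  have hne : (ζ : F) ^ (Fintype.card F - 2) ≠ 0 := pow_ne_zero _ ζ.ne_zero
  rw [inv_eq_iff_eq_inv]
  exact eq_inv_of_mul_eq_one_left h2

theorem addGen_zeta_sq_inv (ζ : Fˣ) (hζ : ∀ a : Fˣ, a ∈ Subgroup.zpowers ζ) :
    AddGen (((ζ : F) ^ 2)⁻¹) := by
  have := addGen_zeta_sq ζ⁻¹ (by
    intro a
    have := hζ a
    rw [Subgroup.mem_zpowers_iff] at this ⊢
    obtain ⟨k, hk⟩ := this
    exact ⟨-k, by rw [inv_zpow, zpow_neg, inv_inv, hk]⟩)
  rwa [Units.val_inv_eq_inv_val, inv_pow] at this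

/-- one-parameter spreading: a predicate closed under addition and under `κ·` (with `κ`
additively generating) that holds at one nonzero parameter holds everywhere. -/
theorem h4s_spread1 {κ : F} (hκ : AddGen κ) (P : F → Prop)
    (hadd : ∀ a a', P a → P a' → P (a + a')) (hmul : ∀ a, P a → P (κ * a))
    (a₀ : F) (ha₀ : a₀ ≠ 0) (h0 : P a₀) : ∀ a, P a := by
  -- additive closure gives a subgroup (finite characteristic)
  have hsmul : ∀ n : ℕ, 0 < n → ∀ a, P a → P (n • a) := by
    intro n hn a ha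
    induction n with
    | zero => omega
    | succ n ih =>
      rcases Nat.eq_zero_or_pos n with rfl | hn'
      · simpa using ha
      · rw [succ_nsmul]
        exact hadd _ _ (ih hn') ha
  have hcard : ∀ a : F, Fintype.card F • a = 0 := by
    intro a
    rw [nsmul_eq_mul, FiniteField.cast_card_eq_zero, zero_mul]
  have hzero : P 0 := by
    have := hsmul (Fintype.card F) Fintype.card_pos a₀ h0
    rwa [hcard] at this
  have hneg : ∀ a, P a → P (-a) := by
    intro a ha
    have h2 : 2 ≤ Fintype.card F := Fintype.one_lt_card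
    have := hsmul (Fintype.card F - 1) (by omega) a ha
    have e : (Fintype.card F - 1) • a = -a := by
      have h3 := hcard a
      have : Fintype.card F = (Fintype.card F - 1) + 1 := by omega
      rw [this, succ_nsmul] at h3
      exact eq_neg_of_add_eq_zero_left h3
    rwa [e] at this
  let S : AddSubgroup F :=
    { carrier := {a | P a}
      add_mem' := fun ha hb => hadd _ _ ha hb
      zero_mem' := hzero
      neg_mem' := fun ha => hneg _ ha }
  have hS : S = ⊤ := hκ S (fun a ha => hmul a ha) a₀ h0 ha₀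
  intro a
  have : a ∈ S := by rw [hS]; trivial
  exact this

/-- two-parameter spreading. `κ₁`-multiplication on the first parameter alone, and some unit `c`
together with `κ₂` on the second one. -/
theorem h4s_spread2 {κ₁ κ₂ : F} (hκ₁ : AddGen κ₁) (hκ₂ : AddGen κ₂) (P : F → F → Prop)
    (hA1 : ∀ a a' b, P a b → P a' b → P (a + a') b)
    (hA2 : ∀ a b b', P a b → P a b' → P a (b + b'))
    (hT1 : ∀ a b, P a b → P (κ₁ * a) b)
    (c : F) (hc : c ≠ 0) (hT2 : ∀ a b, P a b → P (c * a) (κ₂ * b))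
    (a₀ b₀ : F) (ha₀ : a₀ ≠ 0) (hb₀ : b₀ ≠ 0) (h0 : P a₀ b₀) : ∀ a b, P a b := by
  -- step A: all `a` at each fixed `b` where some nonzero `a` works
  have stepA : ∀ b, (∃ a, a ≠ 0 ∧ P a b) → ∀ a, P a b := by
    rintro b ⟨a₁, ha₁, h1⟩
    exact h4s_spread1 hκ₁ (fun a => P a b) (fun a a' => hA1 a a' b) (fun a => hT1 a b) a₁ ha₁ h1
  -- step B: the set of `b` with `∀ a, P a b`
  have hB := h4s_spread1 hκ₂ (fun b => ∀ a, P a b)
    (fun b b' hb hb' a => hA2 a b b' (hb a) (hb' a))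
    (fun b hb a => by
      have := hT2 (c⁻¹ * a) b (hb _)
      rwa [← mul_assoc, mul_inv_cancel₀ hc, one_mul] at this)
    b₀ hb₀ (stepA b₀ ⟨a₀, ha₀, h0⟩)
  intro a b
  exact hB b a

end field

section group

variable {G : Type*} [Group G] {F : Type*} [Field F] [Fintype F]

/-- spreading the action of an endomorphism `σ` (e.g. conjugation by a Weyl or torus element)
from `x 1` to the whole root group, given that `σ` intertwines the torus elements `h`, `h'` which
act on the two root groups by the same additively generating scalar. -/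
theorem h4s_action {κ : F} (hκ : AddGen κ) (x x' : F → G)
    (haddx : ∀ a b, x (a + b) = x a * x b) (haddx' : ∀ a b, x' (a + b) = x' a * x' b)
    (h h' : G) (hconj : ∀ a, h * x a * h⁻¹ = x (κ * a))
    (hconj' : ∀ b, h' * x' b * h'⁻¹ = x' (κ * b))
    (σ : G →* G) (hσh : σ h = h') (c : F) (h1 : σ (x 1) = x' c) :
    ∀ a, σ (x a) = x' (c * a) := by
  refine h4s_spread1 hκ (fun a => σ (x a) = x' (c * a)) ?_ ?_ 1 one_ne_zero (by simpa using h1)
  · intro a a' ha ha'
    show σ (x (a + a')) = x' (c * (a + a'))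
    rw [haddx, map_mul, ha, ha', mul_add, haddx']
  · intro a ha
    show σ (x (κ * a)) = x' (c * (κ * a))
    rw [← hconj, map_mul, map_mul, map_inv, hσh, ha, hconj']
    congr 1
    ring

/-- variant of `h4s_action` where the two torus elements act through different scalars `κ`,
`κ'` is not needed for Sp₄; this is the version for an inner automorphism. -/
theorem h4s_action_conj {κ : F} (hκ : AddGen κ) (x x' : F → G)
    (haddx : ∀ a b, x (a + b) = x a * x b) (haddx' : ∀ a b, x' (a + b) = x' a * x' b)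
    (h h' w : G) (hconj : ∀ a, h * x a * h⁻¹ = x (κ * a))
    (hconj' : ∀ b, h' * x' b * h'⁻¹ = x' (κ * b))
    (hwh : w * h * w⁻¹ = h') (c : F) (h1 : w * x 1 * w⁻¹ = x' c) :
    ∀ a, w * x a * w⁻¹ = x' (c * a) := by
  have := h4s_action hκ x x' haddx haddx' h h' hconj hconj' (MulAut.conj w).toMonoidHom
    (by simpa [MulAut.conj_apply] using hwh) c (by simpa [MulAut.conj_apply] using h1)
  intro a
  simpa [MulAut.conj_apply] using this a

omit [Fintype F] in
/-- left additivity of the set-level commutator predicate. -/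
theorem h4s_comm_P_add_left (x y : F → G) (haddx : ∀ a b, x (a + b) = x a * x b)
    (Z : Subgroup G) (hxZ : ∀ a, ∀ z ∈ Z, x a * z * (x a)⁻¹ ∈ Z) (a a' b : F)
    (h1 : ⁅x a, y b⁆ ∈ Z) (h2 : ⁅x a', y b⁆ ∈ Z) : ⁅x (a + a'), y b⁆ ∈ Z := by
  have e : ⁅x (a + a'), y b⁆ = x a * ⁅x a', y b⁆ * (x a)⁻¹ * ⁅x a, y b⁆ := by
    rw [haddx]
    simp only [commutatorElement_def]
    group
  rw [e]
  exact Z.mul_mem (hxZ a _ h2) h1

omit [Fintype F] in
/-- right additivity of the set-level commutator predicate. -/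
theorem h4s_comm_P_add_right (x y : F → G) (haddy : ∀ a b, y (a + b) = y a * y b)
    (Z : Subgroup G) (hyZ : ∀ b, ∀ z ∈ Z, y b * z * (y b)⁻¹ ∈ Z) (a b b' : F)
    (h1 : ⁅x a, y b⁆ ∈ Z) (h2 : ⁅x a, y b'⁆ ∈ Z) : ⁅x a, y (b + b')⁆ ∈ Z := by
  have e : ⁅x a, y (b + b')⁆ = ⁅x a, y b⁆ * (y b * ⁅x a, y b'⁆ * (y b)⁻¹) := by
    rw [haddy]
    simp only [commutatorElement_def]
    group
  rw [e]
  exact Z.mul_mem h1 (hyZ b _ h2)

/-- **commutator spreading.**  `x`, `y` additive, `Z` a subgroup normalised by both root groups and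
by two torus elements `k₁` (acting as `(κ₁, 1)` on the parameters) and `k₂` (acting as `(c, κ₂)`).
If `⁅x a₀, y b₀⁆ ∈ Z` for one pair of nonzero parameters then for all. -/
theorem h4s_comm_spread {κ₁ κ₂ : F} (hκ₁ : AddGen κ₁) (hκ₂ : AddGen κ₂) (x y : F → G)
    (haddx : ∀ a b, x (a + b) = x a * x b) (haddy : ∀ a b, y (a + b) = y a * y b)
    (Z : Subgroup G) (hxZ : ∀ a, ∀ z ∈ Z, x a * z * (x a)⁻¹ ∈ Z)
    (hyZ : ∀ b, ∀ z ∈ Z, y b * z * (y b)⁻¹ ∈ Z)
    (k₁ k₂ : G) (hk₁Z : ∀ z ∈ Z, k₁ * z * k₁⁻¹ ∈ Z) (hk₂Z : ∀ z ∈ Z, k₂ * z * k₂⁻¹ ∈ Z)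
    (hk₁x : ∀ a, k₁ * x a * k₁⁻¹ = x (κ₁ * a)) (hk₁y : ∀ b, k₁ * y b * k₁⁻¹ = y b)
    (c : F) (hc : c ≠ 0)
    (hk₂x : ∀ a, k₂ * x a * k₂⁻¹ = x (c * a)) (hk₂y : ∀ b, k₂ * y b * k₂⁻¹ = y (κ₂ * b))
    (a₀ b₀ : F) (ha₀ : a₀ ≠ 0) (hb₀ : b₀ ≠ 0) (h0 : ⁅x a₀, y b₀⁆ ∈ Z) :
    ∀ a b, ⁅x a, y b⁆ ∈ Z := by
  have hconj : ∀ k g₁ g₂ : G, k * ⁅g₁, g₂⁆ * k⁻¹ = ⁅k * g₁ * k⁻¹, k * g₂ * k⁻¹⁆ := by
    intro k g₁ g₂
    simp only [commutatorElement_def]
    group
  refine h4s_spread2 hκ₁ hκ₂ (fun a b => ⁅x a, y b⁆ ∈ Z)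
    (fun a a' b => h4s_comm_P_add_left x y haddx Z hxZ a a' b)
    (fun a b b' => h4s_comm_P_add_right x y haddy Z hyZ a b b') ?_ c hc ?_ a₀ b₀ ha₀ hb₀ h0
  · intro a b hab
    have := hk₁Z _ hab
    rwa [hconj, hk₁x, hk₁y] at this
  · intro a b hab
    have := hk₂Z _ hab
    rwa [hconj, hk₂x, hk₂y] at this

end group

end Cfsg.Agent.Sp4Pres
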