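import Cfsg.Agent.Sp4Pres.Roots
import Cfsg.Agent.Sp4Pres.H4_Spread

/-!
# S2293 piece `Spread` (helper4): the spreading lemma and the commutator relations between the
positive root groups of `Sp₄`.
-/

set_option autoImplicit false

namespace Cfsg.Agent.Sp4Pres

open Cfsg.Agent.SL2Pres

section abstract

variable {G : Type*} [Group G] {F : Type*} [Field F] [Fintype F]
  {ζ : Fˣ} {xa xb : F → G} {ta ha tb hb : G} {Ka Kb : ℕ}

omit [Fintype F] in
theorem spr_zpow_two_one (ζ : Fˣ) : ((ζ ^ (2 * (1 : ℤ)) : Fˣ) : F) = (ζ : F) ^ 2 := by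
  rw [mul_one]
  norm_cast

/-- the spreading lemma: a relation on `F × F` containing `(1,1)`, additive in both variables and
stable under scaling either variable by squares of units, is everything -/
theorem spread_lemma (ζ : Fˣ) (hζ : ∀ a : Fˣ, a ∈ Subgroup.zpowers ζ) (S : F → F → Prop)
    (h11 : S 1 1) (h0l : ∀ b, S 0 b) (h0r : ∀ a, S a 0)
    (haddl : ∀ a a' b, S a b → S a' b → S (a + a') b)
    (haddr : ∀ a b b', S a b → S a b' → S a (b + b'))
    (hsql : ∀ (k : ℤ) a b, S a b → S (((ζ ^ (2 * k) : Fˣ) : F) * a) b)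
    (hsqr : ∀ (k : ℤ) a b, S a b → S a (((ζ ^ (2 * k) : Fˣ) : F) * b)) :
    ∀ a b, S a b := by
  refine h4s_spread2 (addGen_zeta_sq ζ hζ) (addGen_zeta_sq ζ hζ) S haddl haddr ?_ 1 one_ne_zero ?_
    1 1 one_ne_zero one_ne_zero h11
  · intro a b hab
    have := hsql 1 a b hab
    rwa [spr_zpow_two_one] at this
  · intro a b hab
    have := hsqr 1 a b hab
    rwa [spr_zpow_two_one, ← one_mul a] at this

omit [Fintype F] in
theorem spr_xa_zero (hyp : Sp4Hyp ζ xa xb ta ha tb hb Ka Kb) : xa 0 = 1 := x_zero xa hyp.adda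

omit [Fintype F] in
theorem spr_xb_zero (hyp : Sp4Hyp ζ xa xb ta ha tb hb Ka Kb) : xb 0 = 1 := x_zero xb hyp.addb

omit [Fintype F] in
theorem spr_xab_zero (hyp : Sp4Hyp ζ xa xb ta ha tb hb Ka Kb) : xab xa tb 0 = 1 := by
  rw [xab, spr_xa_zero hyp]; group

omit [Fintype F] in
theorem spr_x2ab_zero (hyp : Sp4Hyp ζ xa xb ta ha tb hb Ka Kb) : x2ab xb ta 0 = 1 := by
  rw [x2ab, spr_xb_zero hyp]; group

omit [Fintype F] in
/-- conjugation preserves commutation -/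
theorem spr_commute_conj {x y : G} (g : G) (h : Commute x y) :
    Commute (g * x * g⁻¹) (g * y * g⁻¹) := by
  show g * x * g⁻¹ * (g * y * g⁻¹) = g * y * g⁻¹ * (g * x * g⁻¹)
  have e1 : g * x * g⁻¹ * (g * y * g⁻¹) = g * (x * y) * g⁻¹ := by group
  have e2 : g * y * g⁻¹ * (g * x * g⁻¹) = g * (y * x) * g⁻¹ := by group
  rw [e1, e2, h.eq]

omit [Fintype F] in
theorem spr_zpow_zero_coe (ζ : Fˣ) (a : F) : ((ζ ^ (0 : ℤ) : Fˣ) : F) * a = a := by
  rw [zpow_zero, Units.val_one, one_mul]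

theorem comm_xb_x2ab (hyp : Sp4Hyp ζ xa xb ta ha tb hb Ka Kb) (b d : F) :
    Commute (xb b) (x2ab xb ta d) := by
  refine spread_lemma ζ hyp.hζ (fun b d => Commute (xb b) (x2ab xb ta d)) ?_ ?_ ?_ ?_ ?_ ?_ ?_ b d
  · exact hyp.c1
  · intro d; rw [spr_xb_zero hyp]; exact Commute.one_left _
  · intro b; rw [spr_x2ab_zero hyp]; exact Commute.one_right _
  · intro b b' d h1 h2
    show Commute (xb (b + b')) _
    rw [hyp.addb]; exact h1.mul_left h2
  · intro b d d' h1 h2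
    show Commute _ (x2ab xb ta (d + d'))
    rw [x2ab_add hyp]; exact h1.mul_right h2
  · -- scale `b` by `ζ^(2k)`: torus element `(0,k)`
    intro k b d h
    have := spr_commute_conj (ha ^ (0 : ℤ) * hb ^ k) h
    rw [torus_conj_xb hyp, torus_conj_x2ab hyp] at this
    have e1 : 2 * k - 2 * (0 : ℤ) = 2 * k := by ring
    rw [e1] at this
    have e2 : 2 * (0 : ℤ) = 0 := by ring
    rwa [e2, spr_zpow_zero_coe] at this
  · -- scale `d` by `ζ^(2k)`: torus element `(k,k)`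
    intro k b d h
    have := spr_commute_conj (ha ^ k * hb ^ k) h
    rw [torus_conj_xb hyp, torus_conj_x2ab hyp] at this
    have e1 : 2 * k - 2 * k = (0 : ℤ) := by ring
    rwa [e1, spr_zpow_zero_coe] at this

theorem comm_xa_x2ab (hyp : Sp4Hyp ζ xa xb ta ha tb hb Ka Kb) (a d : F) :
    Commute (xa a) (x2ab xb ta d) := by
  refine spread_lemma ζ hyp.hζ (fun a d => Commute (xa a) (x2ab xb ta d)) ?_ ?_ ?_ ?_ ?_ ?_ ?_ a d
  · exact hyp.c2
  · intro d; rw [spr_xa_zero hyp]; exact Commute.one_left _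
  · intro a; rw [spr_x2ab_zero hyp]; exact Commute.one_right _
  · intro a a' d h1 h2
    show Commute (xa (a + a')) _
    rw [hyp.adda]; exact h1.mul_left h2
  · intro a d d' h1 h2
    show Commute _ (x2ab xb ta (d + d'))
    rw [x2ab_add hyp]; exact h1.mul_right h2
  · -- scale `a` by `ζ^(2k)`: torus element `(0,-2k)`
    intro k a d h
    have := spr_commute_conj (ha ^ (0 : ℤ) * hb ^ (-(2 * k))) h
    rw [torus_conj_xa hyp, torus_conj_x2ab hyp] at this
    have e1 : 2 * (0 : ℤ) - -(2 * k) = 2 * k := by ring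
    rw [e1] at this
    have e2 : 2 * (0 : ℤ) = 0 := by ring
    rwa [e2, spr_zpow_zero_coe] at this
  · -- scale `d` by `ζ^(2k)`: torus element `(k,2k)`
    intro k a d h
    have := spr_commute_conj (ha ^ k * hb ^ (2 * k)) h
    rw [torus_conj_xa hyp, torus_conj_x2ab hyp] at this
    have e1 : 2 * k - 2 * k = (0 : ℤ) := by ring
    rwa [e1, spr_zpow_zero_coe] at this

theorem comm_xab_x2ab (hyp : Sp4Hyp ζ xa xb ta ha tb hb Ka Kb) (c d : F) :
    Commute (xab xa tb c) (x2ab xb ta d) := by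
  obtain ⟨d₀, hd₀⟩ := tb_inv_x2ab hyp d
  have h := spr_commute_conj tb (comm_xa_x2ab hyp c d₀)
  have e : tb * x2ab xb ta d₀ * tb⁻¹ = x2ab xb ta d := by
    rw [← hd₀]; group
  rw [e] at h
  exact h

theorem comm_xb_xab (hyp : Sp4Hyp ζ xa xb ta ha tb hb Ka Kb) (b c : F) :
    Commute (xb b) (xab xa tb c) := by
  obtain ⟨c₀, hc₀⟩ := ta_xab hyp c
  have h := spr_commute_conj ta⁻¹ (comm_xab_x2ab hyp c₀ b)
  have e1 : ta⁻¹ * xab xa tb c₀ * ta⁻¹⁻¹ = xab xa tb c := by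
    rw [← hc₀]; group
  have e2 : ta⁻¹ * x2ab xb ta b * ta⁻¹⁻¹ = xb b := by
    rw [x2ab]; group
  rw [e1, e2] at h
  exact h.symm

omit [Fintype F] in
/-- `g [x,y] g⁻¹ = [g x g⁻¹, g y g⁻¹]` for the explicit commutator word -/
theorem spr_conj_comm (g x y : G) :
    g * (x * y * x⁻¹ * y⁻¹) * g⁻¹ =
      (g * x * g⁻¹) * (g * y * g⁻¹) * (g * x * g⁻¹)⁻¹ * (g * y * g⁻¹)⁻¹ := by
  group

omit [Fintype F] in
theorem spr_comm_mul_left (x x' y : G) :
    (x * x') * y * (x * x')⁻¹ * y⁻¹ = x * (x' * y * x'⁻¹ * y⁻¹) * x⁻¹ * (x * y * x⁻¹ * y⁻¹) := by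
  group

omit [Fintype F] in
theorem spr_comm_mul_right (x y y' : G) :
    x * (y * y') * x⁻¹ * (y * y')⁻¹ = (x * y * x⁻¹ * y⁻¹) * (y * (x * y' * x⁻¹ * y'⁻¹) * y⁻¹) := by
  group

theorem comm3 (hyp : Sp4Hyp ζ xa xb ta ha tb hb Ka Kb) (a c : F) :
    ∃ d, xa a * xab xa tb c * (xa a)⁻¹ * (xab xa tb c)⁻¹ = x2ab xb ta d := by
  refine spread_lemma ζ hyp.hζ
    (fun a c => ∃ d, xa a * xab xa tb c * (xa a)⁻¹ * (xab xa tb c)⁻¹ = x2ab xb ta d)
    ?_ ?_ ?_ ?_ ?_ ?_ ?_ a c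
  · exact hyp.c3
  · intro c
    refine ⟨0, ?_⟩
    rw [spr_xa_zero hyp, spr_x2ab_zero hyp]; group
  · intro a
    refine ⟨0, ?_⟩
    rw [spr_xab_zero hyp, spr_x2ab_zero hyp]; group
  · rintro a a' c ⟨d, hd⟩ ⟨d', hd'⟩
    refine ⟨d' + d, ?_⟩
    rw [hyp.adda, spr_comm_mul_left, hd, hd', x2ab_add hyp]
    have := (comm_xa_x2ab hyp a d').eq
    rw [this, mul_inv_cancel_right]
  · rintro a c c' ⟨d, hd⟩ ⟨d', hd'⟩
    refine ⟨d + d', ?_⟩
    rw [xab_add hyp, spr_comm_mul_right, hd, hd', x2ab_add hyp]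
    have := (comm_xab_x2ab hyp c d').eq
    rw [this, mul_inv_cancel_right]
  · -- scale `a` by `ζ^(2k)`: torus element `(k,0)`
    rintro k a c ⟨d, hd⟩
    have := congrArg (fun g => (ha ^ k * hb ^ (0 : ℤ)) * g * (ha ^ k * hb ^ (0 : ℤ))⁻¹) hd
    rw [spr_conj_comm, torus_conj_xa hyp, torus_conj_xab hyp, torus_conj_x2ab hyp] at this
    have e1 : 2 * k - (0 : ℤ) = 2 * k := by ring
    rw [e1, spr_zpow_zero_coe] at this
    exact ⟨_, this⟩
  · -- scale `c` by `ζ^(2k)`: torus element `(k,2k)`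
    rintro k a c ⟨d, hd⟩
    have := congrArg (fun g => (ha ^ k * hb ^ (2 * k)) * g * (ha ^ k * hb ^ (2 * k))⁻¹) hd
    rw [spr_conj_comm, torus_conj_xa hyp, torus_conj_xab hyp, torus_conj_x2ab hyp] at this
    have e1 : 2 * k - 2 * k = (0 : ℤ) := by ring
    rw [e1, spr_zpow_zero_coe] at this
    exact ⟨_, this⟩

theorem comm4 (hyp : Sp4Hyp ζ xa xb ta ha tb hb Ka Kb) (a b : F) :
    ∃ c d, xa a * xb b * (xa a)⁻¹ * (xb b)⁻¹ = xab xa tb c * x2ab xb ta d := by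
  refine spread_lemma ζ hyp.hζ
    (fun a b => ∃ c d, xa a * xb b * (xa a)⁻¹ * (xb b)⁻¹ = xab xa tb c * x2ab xb ta d)
    ?_ ?_ ?_ ?_ ?_ ?_ ?_ a b
  · exact hyp.c4
  · intro b
    refine ⟨0, 0, ?_⟩
    rw [spr_xa_zero hyp, spr_xab_zero hyp, spr_x2ab_zero hyp]; group
  · intro a
    refine ⟨0, 0, ?_⟩
    rw [spr_xb_zero hyp, spr_xab_zero hyp, spr_x2ab_zero hyp]; group
  · rintro a a' b ⟨c, d, h⟩ ⟨c', d', h'⟩
    -- xa a * (xab c' * x2ab d') * (xa a)⁻¹ = x2ab d'' * xab c' * x2ab d'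
    obtain ⟨d'', hd''⟩ := comm3 hyp a c'
    refine ⟨c' + c, d'' + d' + d, ?_⟩
    rw [hyp.adda, spr_comm_mul_left, h, h']
    have k1 : xa a * xab xa tb c' * (xa a)⁻¹ = x2ab xb ta d'' * xab xa tb c' := by
      rw [← hd'']; group
    have k2 : xa a * x2ab xb ta d' * (xa a)⁻¹ = x2ab xb ta d' := by
      rw [(comm_xa_x2ab hyp a d').eq, mul_inv_cancel_right]
    have k3 : xa a * (xab xa tb c' * x2ab xb ta d') * (xa a)⁻¹ =
        x2ab xb ta d'' * xab xa tb c' * x2ab xb ta d' := by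
      have : xa a * (xab xa tb c' * x2ab xb ta d') * (xa a)⁻¹ =
          (xa a * xab xa tb c' * (xa a)⁻¹) * (xa a * x2ab xb ta d' * (xa a)⁻¹) := by group
      rw [this, k1, k2]
    rw [k3, xab_add hyp, x2ab_add hyp, x2ab_add hyp]
    -- commute everything
    have c1 := (comm_xab_x2ab hyp c' d'').eq
    have c2 := (comm_xab_x2ab hyp c d').eq
    have c3 := (comm_xab_x2ab hyp c d'').eq
    calc x2ab xb ta d'' * xab xa tb c' * x2ab xb ta d' * (xab xa tb c * x2ab xb ta d)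
        = xab xa tb c' * x2ab xb ta d'' * x2ab xb ta d' * (xab xa tb c * x2ab xb ta d) := by
          rw [c1]
      _ = xab xa tb c' * x2ab xb ta d'' * (x2ab xb ta d' * xab xa tb c) * x2ab xb ta d := by
          group
      _ = xab xa tb c' * x2ab xb ta d'' * (xab xa tb c * x2ab xb ta d') * x2ab xb ta d := by
          rw [c2]
      _ = xab xa tb c' * (x2ab xb ta d'' * xab xa tb c) * x2ab xb ta d' * x2ab xb ta d := by
          group
      _ = xab xa tb c' * (xab xa tb c * x2ab xb ta d'') * x2ab xb ta d' * x2ab xb ta d := by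
          rw [c3]
      _ = _ := by group
  · rintro a b b' ⟨c, d, h⟩ ⟨c', d', h'⟩
    refine ⟨c + c', d + d', ?_⟩
    rw [hyp.addb, spr_comm_mul_right, h, h']
    have k1 : xb b * xab xa tb c' * (xb b)⁻¹ = xab xa tb c' := by
      rw [(comm_xb_xab hyp b c').eq, mul_inv_cancel_right]
    have k2 : xb b * x2ab xb ta d' * (xb b)⁻¹ = x2ab xb ta d' := by
      rw [(comm_xb_x2ab hyp b d').eq, mul_inv_cancel_right]
    have k3 : xb b * (xab xa tb c' * x2ab xb ta d') * (xb b)⁻¹ =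
        xab xa tb c' * x2ab xb ta d' := by
      have : xb b * (xab xa tb c' * x2ab xb ta d') * (xb b)⁻¹ =
          (xb b * xab xa tb c' * (xb b)⁻¹) * (xb b * x2ab xb ta d' * (xb b)⁻¹) := by group
      rw [this, k1, k2]
    rw [k3, xab_add hyp, x2ab_add hyp]
    have c2 := (comm_xab_x2ab hyp c' d).eq
    calc xab xa tb c * x2ab xb ta d * (xab xa tb c' * x2ab xb ta d')
        = xab xa tb c * (x2ab xb ta d * xab xa tb c') * x2ab xb ta d' := by group
      _ = xab xa tb c * (xab xa tb c' * x2ab xb ta d) * x2ab xb ta d' := by rw [c2]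
      _ = _ := by group
  · -- scale `a` by `ζ^(2k)`: torus element `(2k,2k)`
    rintro k a b ⟨c, d, h⟩
    have := congrArg (fun g => (ha ^ (2 * k) * hb ^ (2 * k)) * g * (ha ^ (2 * k) * hb ^ (2 * k))⁻¹) h
    rw [spr_conj_comm, torus_conj_xa hyp, torus_conj_xb hyp] at this
    have e1 : 2 * (2 * k) - 2 * k = 2 * k := by ring
    have e2 : 2 * (2 * k) - 2 * (2 * k) = (0 : ℤ) := by ring
    rw [e1, e2, spr_zpow_zero_coe] at this
    have e3 : ∀ g x y : G, g * (x * y) * g⁻¹ = (g * x * g⁻¹) * (g * y * g⁻¹) := by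
      intro g x y; group
    rw [e3, torus_conj_xab hyp, torus_conj_x2ab hyp] at this
    exact ⟨_, _, this⟩
  · -- scale `b` by `ζ^(2k)`: torus element `(k,2k)`
    rintro k a b ⟨c, d, h⟩
    have := congrArg (fun g => (ha ^ k * hb ^ (2 * k)) * g * (ha ^ k * hb ^ (2 * k))⁻¹) h
    rw [spr_conj_comm, torus_conj_xa hyp, torus_conj_xb hyp] at this
    have e1 : 2 * k - 2 * k = (0 : ℤ) := by ring
    have e2 : 2 * (2 * k) - 2 * k = 2 * k := by ring
    rw [e1, e2, spr_zpow_zero_coe] at this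
    have e3 : ∀ g x y : G, g * (x * y) * g⁻¹ = (g * x * g⁻¹) * (g * y * g⁻¹) := by
      intro g x y; group
    rw [e3, torus_conj_xab hyp, torus_conj_x2ab hyp] at this
    exact ⟨_, _, this⟩

end abstract

end Cfsg.Agent.Sp4Pres
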