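import Cfsg.Agent.Sp4Pres.Torus
import Cfsg.Agent.Sp4Pres.Roots
import Cfsg.Agent.Sp4Pres.Spread

set_option autoImplicit false
set_option linter.unusedSectionVars false

/-!
# S2293 piece Borel, part A (helper5): `U`, `B = U·H`, and the hypotheses of `rank2_count`
-/

namespace Cfsg.Agent.Sp4Pres

open Cfsg.Agent.SL2Pres

section generic

variable {G : Type*} [Group G]

/-- conjugation by `g` maps `S` into `T` -/
def bor_cj (g : G) (S T : Subgroup G) : Prop := ∀ n ∈ S, g * n * g⁻¹ ∈ T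

theorem bor_cj_sup {g : G} {S S' T : Subgroup G} (h : bor_cj g S T) (h' : bor_cj g S' T) :
    bor_cj g (S ⊔ S') T := by
  intro n hn
  have hle : S ⊔ S' ≤ T.comap (MulAut.conj g).toMonoidHom :=
    sup_le (fun n hn => h n hn) (fun n hn => h' n hn)
  exact hle hn

theorem bor_cj_mono {g : G} {S T T' : Subgroup G} (h : bor_cj g S T) (hT : T ≤ T') :
    bor_cj g S T' := fun n hn => hT (h n hn)

theorem bor_le_normalizer {H N : Subgroup G} (h : ∀ x ∈ H, bor_cj x N N) : H ≤ Subgroup.normalizer (N : Set G) := by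
  intro x hx
  rw [Subgroup.mem_normalizer_iff]
  intro n
  constructor
  · exact h x hx n
  · intro hn
    have h1 := h x⁻¹ (H.inv_mem hx) _ hn
    have e : x⁻¹ * (x * n * x⁻¹) * x⁻¹⁻¹ = n := by group
    rwa [e] at h1

theorem bor_mem_mul {A N : Subgroup G} (h : A ≤ Subgroup.normalizer (N : Set G)) {g : G} (hg : g ∈ A ⊔ N) :
    ∃ a ∈ A, ∃ n ∈ N, g = a * n := by
  have hg' : g ∈ ((A ⊔ N : Subgroup G) : Set G) := hg
  rw [Subgroup.coe_mul_of_left_le_normalizer_right A N h] at hg'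
  obtain ⟨a, ha, n, hn, rfl⟩ := hg'
  exact ⟨a, ha, n, hn, rfl⟩

theorem bor_mem_mul' {A N : Subgroup G} (h : A ≤ Subgroup.normalizer (N : Set G)) {g : G} (hg : g ∈ A ⊔ N) :
    ∃ n ∈ N, ∃ a ∈ A, g = n * a := by
  have hg' : g ∈ ((N ⊔ A : Subgroup G) : Set G) := by
    rw [sup_comm]
    exact hg
  rw [Subgroup.coe_mul_of_right_le_normalizer_left N A h] at hg'
  obtain ⟨n, hn, a, ha, rfl⟩ := hg'
  exact ⟨n, hn, a, ha, rfl⟩

theorem bor_card_sup (A N : Subgroup G) [Finite A] [Finite N] (h : A ≤ Subgroup.normalizer (N : Set G)) :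
    Finite ↥(A ⊔ N) ∧ Nat.card ↥(A ⊔ N) ≤ Nat.card A * Nat.card N := by
  have hsurj : Function.Surjective (fun p : A × N =>
      (⟨(p.1 : G) * p.2, (A ⊔ N).mul_mem ((le_sup_left : A ≤ A ⊔ N) p.1.2)
        ((le_sup_right : N ≤ A ⊔ N) p.2.2)⟩ : ↥(A ⊔ N))) := by
    rintro ⟨g, hg⟩
    obtain ⟨a, ha, n, hn, rfl⟩ := bor_mem_mul h hg
    exact ⟨(⟨a, ha⟩, ⟨n, hn⟩), rfl⟩
  have hfin : Finite ↥(A ⊔ N) := Finite.of_surjective _ hsurj
  refine ⟨hfin, ?_⟩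
  calc Nat.card ↥(A ⊔ N) ≤ Nat.card (A × N) := Nat.card_le_card_of_surjective _ hsurj
    _ = Nat.card A * Nat.card N := Nat.card_prod _ _

variable {F : Type*} [Field F]

/-- the root subgroup `x(F)` of an additive map `x : F → G` -/
def bor_X (x : F → G) (hadd : ∀ a b, x (a + b) = x a * x b) : Subgroup G := (xHom x hadd).range

theorem bor_mem_X (x : F → G) (hadd : ∀ a b, x (a + b) = x a * x b) (c : F) :
    x c ∈ bor_X x hadd := ⟨Multiplicative.ofAdd c, rfl⟩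

theorem bor_of_mem_X {x : F → G} {hadd : ∀ a b, x (a + b) = x a * x b} {g : G}
    (hg : g ∈ bor_X x hadd) : ∃ c, g = x c := by
  obtain ⟨c, rfl⟩ := hg
  exact ⟨Multiplicative.toAdd c, rfl⟩

theorem bor_cj_X {g : G} {x : F → G} {hadd : ∀ a b, x (a + b) = x a * x b} {T : Subgroup G}
    (h : ∀ c, g * x c * g⁻¹ ∈ T) : bor_cj g (bor_X x hadd) T := by
  intro n hn
  obtain ⟨c, rfl⟩ := bor_of_mem_X hn
  exact h c

theorem bor_X_card [Fintype F] (x : F → G) (hadd : ∀ a b, x (a + b) = x a * x b) :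
    Finite ↥(bor_X x hadd) ∧ Nat.card ↥(bor_X x hadd) ≤ Fintype.card F := by
  have hsurj : Function.Surjective (xHom x hadd).rangeRestrict :=
    (xHom x hadd).rangeRestrict_surjective
  have hfin : Finite ↥(bor_X x hadd) := Finite.of_surjective _ hsurj
  refine ⟨hfin, ?_⟩
  calc Nat.card ↥(bor_X x hadd) ≤ Nat.card (Multiplicative F) :=
        Nat.card_le_card_of_surjective _ hsurj
    _ = Fintype.card F := by
        rw [Nat.card_eq_fintype_card, Fintype.card_multiplicative]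

/-- commuting root subgroups normalise each other -/
theorem bor_X_le_normalizer_of_commute {x y : F → G} {hx : ∀ a b, x (a + b) = x a * x b}
    {hy : ∀ a b, y (a + b) = y a * y b} (h : ∀ c d, Commute (x c) (y d)) :
    bor_X x hx ≤ Subgroup.normalizer ((bor_X y hy : Subgroup G) : Set G) := by
  apply bor_le_normalizer
  intro g hg
  obtain ⟨c, rfl⟩ := bor_of_mem_X hg
  apply bor_cj_X
  intro d
  rw [(h c d).eq, mul_inv_cancel_right]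
  exact bor_mem_X y hy d

end generic

section main

variable {G : Type*} [Group G] {F : Type*} [Field F] [Fintype F]
  {ζ : Fˣ} {xa xb : F → G} {ta ha tb hb : G} {Ka Kb : ℕ}

/-- `X_α` -/
def bor_Xa (hyp : Sp4Hyp ζ xa xb ta ha tb hb Ka Kb) : Subgroup G := bor_X xa hyp.adda
/-- `X_β` -/
def bor_Xb (hyp : Sp4Hyp ζ xa xb ta ha tb hb Ka Kb) : Subgroup G := bor_X xb hyp.addb
/-- `X_{α+β}` -/
def bor_Xab (hyp : Sp4Hyp ζ xa xb ta ha tb hb Ka Kb) : Subgroup G :=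
  bor_X (xab xa tb) (xab_add hyp)
/-- `X_{2α+β}` -/
def bor_X2ab (hyp : Sp4Hyp ζ xa xb ta ha tb hb Ka Kb) : Subgroup G :=
  bor_X (x2ab xb ta) (x2ab_add hyp)
/-- `V = X_{α+β} X_{2α+β}` -/
def bor_V (hyp : Sp4Hyp ζ xa xb ta ha tb hb Ka Kb) : Subgroup G := bor_Xab hyp ⊔ bor_X2ab hyp
/-- `U^α = X_β V` -/
def bor_Ua (hyp : Sp4Hyp ζ xa xb ta ha tb hb Ka Kb) : Subgroup G := bor_Xb hyp ⊔ bor_V hyp
/-- `U^β = X_α V` -/
def bor_Ub (hyp : Sp4Hyp ζ xa xb ta ha tb hb Ka Kb) : Subgroup G := bor_Xa hyp ⊔ bor_V hyp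
/-- `U = X_α U^α` -/
def bor_U (hyp : Sp4Hyp ζ xa xb ta ha tb hb Ka Kb) : Subgroup G := bor_Xa hyp ⊔ bor_Ua hyp
/-- `B = U H` -/
def bor_B (hyp : Sp4Hyp ζ xa xb ta ha tb hb Ka Kb) : Subgroup G := bor_U hyp ⊔ torusSub hyp

variable (hyp : Sp4Hyp ζ xa xb ta ha tb hb Ka Kb)

theorem bor_xa_mem (c : F) : xa c ∈ bor_Xa hyp := bor_mem_X xa hyp.adda c
theorem bor_xb_mem (c : F) : xb c ∈ bor_Xb hyp := bor_mem_X xb hyp.addb c
theorem bor_xab_mem (c : F) : xab xa tb c ∈ bor_Xab hyp := bor_mem_X _ (xab_add hyp) c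
theorem bor_x2ab_mem (c : F) : x2ab xb ta c ∈ bor_X2ab hyp := bor_mem_X _ (x2ab_add hyp) c

theorem bor_Xab_le_V : bor_Xab hyp ≤ bor_V hyp := le_sup_left
theorem bor_X2ab_le_V : bor_X2ab hyp ≤ bor_V hyp := le_sup_right
theorem bor_V_le_Ua : bor_V hyp ≤ bor_Ua hyp := le_sup_right
theorem bor_Xb_le_Ua : bor_Xb hyp ≤ bor_Ua hyp := le_sup_left
theorem bor_V_le_Ub : bor_V hyp ≤ bor_Ub hyp := le_sup_right
theorem bor_Xa_le_Ub : bor_Xa hyp ≤ bor_Ub hyp := le_sup_left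
theorem bor_Ua_le_U : bor_Ua hyp ≤ bor_U hyp := le_sup_right
theorem bor_Xa_le_U : bor_Xa hyp ≤ bor_U hyp := le_sup_left
theorem bor_U_le_B : bor_U hyp ≤ bor_B hyp := le_sup_left
theorem bor_H_le_B : torusSub hyp ≤ bor_B hyp := le_sup_right

theorem bor_U_eq : bor_U hyp = bor_Xb hyp ⊔ bor_Ub hyp := by
  unfold bor_U bor_Ua bor_Ub
  exact sup_left_comm _ _ _

theorem bor_Ub_le_U : bor_Ub hyp ≤ bor_U hyp := by
  rw [bor_U_eq]
  exact le_sup_right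

theorem bor_Xb_le_U : bor_Xb hyp ≤ bor_U hyp := (bor_Xb_le_Ua hyp).trans (bor_Ua_le_U hyp)

theorem bor_mem_H_iff {g : G} : g ∈ torusSub hyp ↔ ∃ i j : ℤ, g = ha ^ i * hb ^ j := Iff.rfl

/-! ### normalisers inside `U` -/

theorem bor_Xab_norm : bor_Xab hyp ≤ Subgroup.normalizer ((bor_X2ab hyp : Subgroup G) : Set G) :=
  bor_X_le_normalizer_of_commute (fun c d => comm_xab_x2ab hyp c d)

/-- conjugation by `xb b` fixes `V` -/
theorem bor_cj_xb_V (b : F) : bor_cj (xb b) (bor_V hyp) (bor_V hyp) := by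
  apply bor_cj_sup
  · apply bor_cj_X
    intro c
    rw [(comm_xb_xab hyp b c).eq, mul_inv_cancel_right]
    exact bor_Xab_le_V hyp (bor_xab_mem hyp c)
  · apply bor_cj_X
    intro d
    rw [(comm_xb_x2ab hyp b d).eq, mul_inv_cancel_right]
    exact bor_X2ab_le_V hyp (bor_x2ab_mem hyp d)

theorem bor_Xb_norm : bor_Xb hyp ≤ Subgroup.normalizer ((bor_V hyp : Subgroup G) : Set G) := by
  apply bor_le_normalizer
  intro g hg
  obtain ⟨b, rfl⟩ := bor_of_mem_X hg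
  exact bor_cj_xb_V hyp b

/-- conjugation by `xa a` preserves `V` -/
theorem bor_cj_xa_V (a : F) : bor_cj (xa a) (bor_V hyp) (bor_V hyp) := by
  apply bor_cj_sup
  · apply bor_cj_X
    intro c
    obtain ⟨d, hd⟩ := comm3 hyp a c
    have e : xa a * xab xa tb c * (xa a)⁻¹ = x2ab xb ta d * xab xa tb c := by
      rw [← hd]
      group
    rw [e]
    exact (bor_V hyp).mul_mem (bor_X2ab_le_V hyp (bor_x2ab_mem hyp d))
      (bor_Xab_le_V hyp (bor_xab_mem hyp c))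
  · apply bor_cj_X
    intro d
    rw [(comm_xa_x2ab hyp a d).eq, mul_inv_cancel_right]
    exact bor_X2ab_le_V hyp (bor_x2ab_mem hyp d)

theorem bor_Xa_norm_V : bor_Xa hyp ≤ Subgroup.normalizer ((bor_V hyp : Subgroup G) : Set G) := by
  apply bor_le_normalizer
  intro g hg
  obtain ⟨a, rfl⟩ := bor_of_mem_X hg
  exact bor_cj_xa_V hyp a

/-- conjugation by `xa a` preserves `U^α` -/
theorem bor_cj_xa_Ua (a : F) : bor_cj (xa a) (bor_Ua hyp) (bor_Ua hyp) := by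
  apply bor_cj_sup
  · apply bor_cj_X
    intro b
    obtain ⟨c, d, hcd⟩ := comm4 hyp a b
    have e : xa a * xb b * (xa a)⁻¹ = xab xa tb c * x2ab xb ta d * xb b := by
      rw [← hcd]
      group
    rw [e]
    exact (bor_Ua hyp).mul_mem (bor_V_le_Ua hyp ((bor_V hyp).mul_mem
      (bor_Xab_le_V hyp (bor_xab_mem hyp c)) (bor_X2ab_le_V hyp (bor_x2ab_mem hyp d))))
      (bor_Xb_le_Ua hyp (bor_xb_mem hyp b))
  · exact bor_cj_mono (bor_cj_xa_V hyp a) (bor_V_le_Ua hyp)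

theorem bor_Xa_norm : bor_Xa hyp ≤ Subgroup.normalizer ((bor_Ua hyp : Subgroup G) : Set G) := by
  apply bor_le_normalizer
  intro g hg
  obtain ⟨a, rfl⟩ := bor_of_mem_X hg
  exact bor_cj_xa_Ua hyp a

/-- conjugation by `xb b` preserves `U^β` -/
theorem bor_cj_xb_Ub (b : F) : bor_cj (xb b) (bor_Ub hyp) (bor_Ub hyp) := by
  apply bor_cj_sup
  · apply bor_cj_X
    intro a
    obtain ⟨c, d, hcd⟩ := comm4 hyp (-a) b
    have hneg : xa (-a) = (xa a)⁻¹ := x_neg xa hyp.adda a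
    rw [hneg, inv_inv] at hcd
    have e : xb b * xa a * (xb b)⁻¹ = xa a * (xab xa tb c * x2ab xb ta d) := by
      rw [← hcd]
      group
    rw [e]
    exact (bor_Ub hyp).mul_mem (bor_Xa_le_Ub hyp (bor_xa_mem hyp a))
      (bor_V_le_Ub hyp ((bor_V hyp).mul_mem
      (bor_Xab_le_V hyp (bor_xab_mem hyp c)) (bor_X2ab_le_V hyp (bor_x2ab_mem hyp d))))
  · exact bor_cj_mono (bor_cj_xb_V hyp b) (bor_V_le_Ub hyp)

theorem bor_Xb_norm_Ub :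
    bor_Xb hyp ≤ Subgroup.normalizer ((bor_Ub hyp : Subgroup G) : Set G) := by
  apply bor_le_normalizer
  intro g hg
  obtain ⟨b, rfl⟩ := bor_of_mem_X hg
  exact bor_cj_xb_Ub hyp b

/-! ### the torus normalises everything -/

theorem bor_cj_H_Xa {h : G} (hh : h ∈ torusSub hyp) : bor_cj h (bor_Xa hyp) (bor_Xa hyp) := by
  obtain ⟨i, j, rfl⟩ := (bor_mem_H_iff hyp).mp hh
  apply bor_cj_X
  intro c
  rw [torus_conj_xa hyp]
  exact bor_xa_mem hyp _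

theorem bor_cj_H_Xb {h : G} (hh : h ∈ torusSub hyp) : bor_cj h (bor_Xb hyp) (bor_Xb hyp) := by
  obtain ⟨i, j, rfl⟩ := (bor_mem_H_iff hyp).mp hh
  apply bor_cj_X
  intro c
  rw [torus_conj_xb hyp]
  exact bor_xb_mem hyp _

theorem bor_cj_H_Xab {h : G} (hh : h ∈ torusSub hyp) :
    bor_cj h (bor_Xab hyp) (bor_Xab hyp) := by
  obtain ⟨i, j, rfl⟩ := (bor_mem_H_iff hyp).mp hh
  apply bor_cj_X
  intro c
  rw [torus_conj_xab hyp]
  exact bor_xab_mem hyp _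

theorem bor_cj_H_X2ab {h : G} (hh : h ∈ torusSub hyp) :
    bor_cj h (bor_X2ab hyp) (bor_X2ab hyp) := by
  obtain ⟨i, j, rfl⟩ := (bor_mem_H_iff hyp).mp hh
  apply bor_cj_X
  intro c
  rw [torus_conj_x2ab hyp]
  exact bor_x2ab_mem hyp _

theorem bor_cj_H_V {h : G} (hh : h ∈ torusSub hyp) : bor_cj h (bor_V hyp) (bor_V hyp) :=
  bor_cj_sup (bor_cj_mono (bor_cj_H_Xab hyp hh) (bor_Xab_le_V hyp))
    (bor_cj_mono (bor_cj_H_X2ab hyp hh) (bor_X2ab_le_V hyp))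

theorem bor_cj_H_Ua {h : G} (hh : h ∈ torusSub hyp) : bor_cj h (bor_Ua hyp) (bor_Ua hyp) :=
  bor_cj_sup (bor_cj_mono (bor_cj_H_Xb hyp hh) (bor_Xb_le_Ua hyp))
    (bor_cj_mono (bor_cj_H_V hyp hh) (bor_V_le_Ua hyp))

theorem bor_cj_H_U {h : G} (hh : h ∈ torusSub hyp) : bor_cj h (bor_U hyp) (bor_U hyp) :=
  bor_cj_sup (bor_cj_mono (bor_cj_H_Xa hyp hh) (bor_Xa_le_U hyp))
    (bor_cj_mono (bor_cj_H_Ua hyp hh) (bor_Ua_le_U hyp))

theorem bor_H_norm : torusSub hyp ≤ Subgroup.normalizer ((bor_U hyp : Subgroup G) : Set G) :=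
  bor_le_normalizer (fun _ hh => bor_cj_H_U hyp hh)

/-! ### the Weyl elements -/

theorem bor_ta_Ua : bor_cj ta (bor_Ua hyp) (bor_Ua hyp) := by
  refine bor_cj_sup ?_ (bor_cj_sup ?_ ?_)
  · apply bor_cj_X
    intro c
    exact bor_V_le_Ua hyp (bor_X2ab_le_V hyp (bor_x2ab_mem hyp c))
  · apply bor_cj_X
    intro c
    obtain ⟨c', hc'⟩ := ta_xab hyp c
    rw [hc']
    exact bor_V_le_Ua hyp (bor_Xab_le_V hyp (bor_xab_mem hyp c'))
  · apply bor_cj_X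
    intro c
    obtain ⟨c', hc'⟩ := ta_x2ab hyp c
    rw [hc']
    exact bor_Xb_le_Ua hyp (bor_xb_mem hyp c')

theorem bor_tai_Ua : bor_cj ta⁻¹ (bor_Ua hyp) (bor_Ua hyp) := by
  refine bor_cj_sup ?_ (bor_cj_sup ?_ ?_)
  · apply bor_cj_X
    intro c
    obtain ⟨c', hc'⟩ := ta_inv_xb hyp c
    rw [inv_inv, hc']
    exact bor_V_le_Ua hyp (bor_X2ab_le_V hyp (bor_x2ab_mem hyp c'))
  · apply bor_cj_X
    intro c
    obtain ⟨c', hc'⟩ := ta_inv_xab hyp c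
    rw [inv_inv, hc']
    exact bor_V_le_Ua hyp (bor_Xab_le_V hyp (bor_xab_mem hyp c'))
  · apply bor_cj_X
    intro c
    have e : ta⁻¹ * x2ab xb ta c * ta⁻¹⁻¹ = xb c := by
      unfold x2ab
      group
    rw [e]
    exact bor_Xb_le_Ua hyp (bor_xb_mem hyp c)

theorem bor_tb_Ub : bor_cj tb (bor_Ub hyp) (bor_Ub hyp) := by
  refine bor_cj_sup ?_ (bor_cj_sup ?_ ?_)
  · apply bor_cj_X
    intro c
    exact bor_V_le_Ub hyp (bor_Xab_le_V hyp (bor_xab_mem hyp c))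
  · apply bor_cj_X
    intro c
    obtain ⟨c', hc'⟩ := tb_xab hyp c
    rw [hc']
    exact bor_Xa_le_Ub hyp (bor_xa_mem hyp c')
  · apply bor_cj_X
    intro c
    obtain ⟨c', hc'⟩ := tb_x2ab hyp c
    rw [hc']
    exact bor_V_le_Ub hyp (bor_X2ab_le_V hyp (bor_x2ab_mem hyp c'))

theorem bor_tbi_Ub : bor_cj tb⁻¹ (bor_Ub hyp) (bor_Ub hyp) := by
  refine bor_cj_sup ?_ (bor_cj_sup ?_ ?_)
  · apply bor_cj_X
    intro c
    obtain ⟨c', hc'⟩ := tb_inv_xa hyp c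
    rw [inv_inv, hc']
    exact bor_V_le_Ub hyp (bor_Xab_le_V hyp (bor_xab_mem hyp c'))
  · apply bor_cj_X
    intro c
    have e : tb⁻¹ * xab xa tb c * tb⁻¹⁻¹ = xa c := by
      unfold xab
      group
    rw [e]
    exact bor_Xa_le_Ub hyp (bor_xa_mem hyp c)
  · apply bor_cj_X
    intro c
    obtain ⟨c', hc'⟩ := tb_inv_x2ab hyp c
    rw [inv_inv, hc']
    exact bor_V_le_Ub hyp (bor_X2ab_le_V hyp (bor_x2ab_mem hyp c'))

theorem bor_ta_H : bor_cj ta (torusSub hyp) (torusSub hyp) := by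
  intro h hh
  obtain ⟨i, j, rfl⟩ := (bor_mem_H_iff hyp).mp hh
  rw [ta_torus hyp]
  exact (bor_mem_H_iff hyp).mpr ⟨_, _, rfl⟩

theorem bor_tai_H : bor_cj ta⁻¹ (torusSub hyp) (torusSub hyp) := by
  intro h hh
  obtain ⟨i, j, rfl⟩ := (bor_mem_H_iff hyp).mp hh
  rw [inv_inv, ta_inv_torus hyp]
  exact (bor_mem_H_iff hyp).mpr ⟨_, _, rfl⟩

theorem bor_tb_H : bor_cj tb (torusSub hyp) (torusSub hyp) := by
  intro h hh
  obtain ⟨i, j, rfl⟩ := (bor_mem_H_iff hyp).mp hh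
  rw [tb_torus hyp]
  exact (bor_mem_H_iff hyp).mpr ⟨_, _, rfl⟩

theorem bor_tbi_H : bor_cj tb⁻¹ (torusSub hyp) (torusSub hyp) := by
  intro h hh
  obtain ⟨i, j, rfl⟩ := (bor_mem_H_iff hyp).mp hh
  rw [inv_inv, tb_inv_torus hyp]
  exact (bor_mem_H_iff hyp).mpr ⟨_, _, rfl⟩

/-! ### decompositions of `B` -/

theorem bor_decomp_a {b : G} (hb' : b ∈ bor_B hyp) :
    (∃ w ∈ bor_Ua hyp, ∃ h ∈ torusSub hyp, ∃ a, b = w * h * xa a) ∧
    (∃ w ∈ bor_Ua hyp, ∃ h ∈ torusSub hyp, ∃ a, b = xa a * w * h) := by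
  have hb2 : b ∈ torusSub hyp ⊔ bor_U hyp := by
    rw [sup_comm]
    exact hb'
  obtain ⟨u, hu, h, hh, rfl⟩ := bor_mem_mul' (bor_H_norm hyp) hb2
  constructor
  · obtain ⟨w, hw, x, hx, rfl⟩ := bor_mem_mul' (bor_Xa_norm hyp) hu
    obtain ⟨a, rfl⟩ := bor_of_mem_X hx
    obtain ⟨a', ha'⟩ := bor_of_mem_X (bor_cj_H_Xa hyp ((torusSub hyp).inv_mem hh) _
      (bor_xa_mem hyp a))
    refine ⟨w, hw, h, hh, a', ?_⟩
    rw [← ha']
    group
  · obtain ⟨x, hx, w, hw, rfl⟩ := bor_mem_mul (bor_Xa_norm hyp) hu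
    obtain ⟨a, rfl⟩ := bor_of_mem_X hx
    exact ⟨w, hw, h, hh, a, rfl⟩

theorem bor_decomp_b {b : G} (hb' : b ∈ bor_B hyp) :
    (∃ w ∈ bor_Ub hyp, ∃ h ∈ torusSub hyp, ∃ a, b = w * h * xb a) ∧
    (∃ w ∈ bor_Ub hyp, ∃ h ∈ torusSub hyp, ∃ a, b = xb a * w * h) := by
  have hb2 : b ∈ torusSub hyp ⊔ bor_U hyp := by
    rw [sup_comm]
    exact hb'
  obtain ⟨u, hu, h, hh, rfl⟩ := bor_mem_mul' (bor_H_norm hyp) hb2
  rw [bor_U_eq] at hu
  constructor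
  · obtain ⟨w, hw, x, hx, rfl⟩ := bor_mem_mul' (bor_Xb_norm_Ub hyp) hu
    obtain ⟨a, rfl⟩ := bor_of_mem_X hx
    obtain ⟨a', ha'⟩ := bor_of_mem_X (bor_cj_H_Xb hyp ((torusSub hyp).inv_mem hh) _
      (bor_xb_mem hyp a))
    refine ⟨w, hw, h, hh, a', ?_⟩
    rw [← ha']
    group
  · obtain ⟨x, hx, w, hw, rfl⟩ := bor_mem_mul (bor_Xb_norm_Ub hyp) hu
    obtain ⟨a, rfl⟩ := bor_of_mem_X hx
    exact ⟨w, hw, h, hh, a, rfl⟩

/-! ### cardinalities -/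

theorem bor_card_V : Finite ↥(bor_V hyp) ∧ Nat.card ↥(bor_V hyp) ≤ Fintype.card F ^ 2 := by
  obtain ⟨f1, c1⟩ := bor_X_card (xab xa tb) (xab_add hyp)
  obtain ⟨f2, c2⟩ := bor_X_card (x2ab xb ta) (x2ab_add hyp)
  have : Finite ↥(bor_Xab hyp) := f1
  have : Finite ↥(bor_X2ab hyp) := f2
  obtain ⟨f, c⟩ := bor_card_sup (bor_Xab hyp) (bor_X2ab hyp) (bor_Xab_norm hyp)
  refine ⟨f, c.trans ?_⟩
  rw [pow_two]
  exact Nat.mul_le_mul c1 c2

theorem bor_card_Ua : Finite ↥(bor_Ua hyp) ∧ Nat.card ↥(bor_Ua hyp) ≤ Fintype.card F ^ 3 := by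
  obtain ⟨f1, c1⟩ := bor_X_card xb hyp.addb
  obtain ⟨f2, c2⟩ := bor_card_V hyp
  have : Finite ↥(bor_Xb hyp) := f1
  have : Finite ↥(bor_V hyp) := f2
  obtain ⟨f, c⟩ := bor_card_sup (bor_Xb hyp) (bor_V hyp) (bor_Xb_norm hyp)
  refine ⟨f, c.trans ?_⟩
  rw [pow_succ']
  exact Nat.mul_le_mul c1 c2

theorem bor_card_U : Finite ↥(bor_U hyp) ∧ Nat.card ↥(bor_U hyp) ≤ Fintype.card F ^ 4 := by
  obtain ⟨f1, c1⟩ := bor_X_card xa hyp.adda
  obtain ⟨f2, c2⟩ := bor_card_Ua hyp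
  have : Finite ↥(bor_Xa hyp) := f1
  have : Finite ↥(bor_Ua hyp) := f2
  obtain ⟨f, c⟩ := bor_card_sup (bor_Xa hyp) (bor_Ua hyp) (bor_Xa_norm hyp)
  refine ⟨f, c.trans ?_⟩
  rw [pow_succ']
  exact Nat.mul_le_mul c1 c2

theorem bor_card_H : Finite ↥(torusSub hyp) ∧ Nat.card ↥(torusSub hyp) ≤ Ka * Kb := by
  obtain ⟨f, c⟩ := torus_finite hyp
  refine ⟨f.to_subtype, ?_⟩
  have e : Nat.card ↥(torusSub hyp) = (torus ha hb).ncard := Nat.card_coe_set_eq (torus ha hb)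
  rw [e]
  exact c

theorem bor_card_B :
    Finite ↥(bor_B hyp) ∧ Nat.card ↥(bor_B hyp) ≤ Fintype.card F ^ 4 * (Ka * Kb) := by
  obtain ⟨f1, c1⟩ := bor_card_H hyp
  obtain ⟨f2, c2⟩ := bor_card_U hyp
  have : Finite ↥(torusSub hyp) := f1
  have : Finite ↥(bor_U hyp) := f2
  obtain ⟨f, c⟩ := bor_card_sup (torusSub hyp) (bor_U hyp) (bor_H_norm hyp)
  have e : bor_B hyp = torusSub hyp ⊔ bor_U hyp := sup_comm _ _
  rw [e]
  refine ⟨f, c.trans ?_⟩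
  rw [mul_comm]
  exact Nat.mul_le_mul c2 c1

/-! ### the hypotheses of `rank2_count` -/

theorem bor_xa_mem_B (c : F) : xa c ∈ bor_B hyp :=
  bor_U_le_B hyp (bor_Xa_le_U hyp (bor_xa_mem hyp c))

theorem bor_xb_mem_B (c : F) : xb c ∈ bor_B hyp :=
  bor_U_le_B hyp (bor_Xb_le_U hyp (bor_xb_mem hyp c))

theorem bor_xab_mem_B (c : F) : xab xa tb c ∈ bor_B hyp :=
  bor_U_le_B hyp (bor_Ua_le_U hyp (bor_V_le_Ua hyp (bor_Xab_le_V hyp (bor_xab_mem hyp c))))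

theorem bor_x2ab_mem_B (c : F) : x2ab xb ta c ∈ bor_B hyp :=
  bor_U_le_B hyp (bor_Ua_le_U hyp (bor_V_le_Ua hyp (bor_X2ab_le_V hyp (bor_x2ab_mem hyp c))))

theorem bor_Ua_le_B : bor_Ua hyp ≤ bor_B hyp := (bor_Ua_le_U hyp).trans (bor_U_le_B hyp)

theorem bor_Ub_le_B : bor_Ub hyp ≤ bor_B hyp := (bor_Ub_le_U hyp).trans (bor_U_le_B hyp)

theorem bor_ta_sq : ta * ta ∈ bor_B hyp := by
  rw [← pow_two]
  exact bor_H_le_B hyp (ta_sq_mem_torus hyp)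

theorem bor_tb_sq : tb * tb ∈ bor_B hyp := by
  rw [← pow_two]
  exact bor_H_le_B hyp (tb_sq_mem_torus hyp)

theorem bor_ia (b : G) (hb' : b ∈ bor_B hyp) : ∃ b' ∈ bor_B hyp, ∃ c, ta * b = b' * ta * xa c := by
  obtain ⟨w, hw, h, hh, a, rfl⟩ := (bor_decomp_a hyp hb').1
  refine ⟨(ta * w * ta⁻¹) * (ta * h * ta⁻¹), (bor_B hyp).mul_mem
    (bor_Ua_le_B hyp (bor_ta_Ua hyp w hw)) (bor_H_le_B hyp (bor_ta_H hyp h hh)), a, ?_⟩
  group

theorem bor_ia' (b : G) (hb' : b ∈ bor_B hyp) :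
    ∃ b' ∈ bor_B hyp, ∃ c, b * ta = xa c * ta * b' := by
  obtain ⟨w, hw, h, hh, a, rfl⟩ := (bor_decomp_a hyp hb').2
  refine ⟨(ta⁻¹ * w * ta⁻¹⁻¹) * (ta⁻¹ * h * ta⁻¹⁻¹), (bor_B hyp).mul_mem
    (bor_Ua_le_B hyp (bor_tai_Ua hyp w hw)) (bor_H_le_B hyp (bor_tai_H hyp h hh)), a, ?_⟩
  group

theorem bor_ib (b : G) (hb' : b ∈ bor_B hyp) : ∃ b' ∈ bor_B hyp, ∃ c, tb * b = b' * tb * xb c := by
  obtain ⟨w, hw, h, hh, a, rfl⟩ := (bor_decomp_b hyp hb').1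
  refine ⟨(tb * w * tb⁻¹) * (tb * h * tb⁻¹), (bor_B hyp).mul_mem
    (bor_Ub_le_B hyp (bor_tb_Ub hyp w hw)) (bor_H_le_B hyp (bor_tb_H hyp h hh)), a, ?_⟩
  group

theorem bor_ib' (b : G) (hb' : b ∈ bor_B hyp) :
    ∃ b' ∈ bor_B hyp, ∃ c, b * tb = xb c * tb * b' := by
  obtain ⟨w, hw, h, hh, a, rfl⟩ := (bor_decomp_b hyp hb').2
  refine ⟨(tb⁻¹ * w * tb⁻¹⁻¹) * (tb⁻¹ * h * tb⁻¹⁻¹), (bor_B hyp).mul_mem
    (bor_Ub_le_B hyp (bor_tbi_Ub hyp w hw)) (bor_H_le_B hyp (bor_tbi_H hyp h hh)), a, ?_⟩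
  group

theorem bor_pow_mem_B (i : ℤ) : ha ^ i ∈ bor_B hyp :=
  bor_H_le_B hyp ((bor_mem_H_iff hyp).mpr ⟨i, 0, by simp⟩)

theorem bor_pow_mem_B' (i : ℤ) : hb ^ i ∈ bor_B hyp :=
  bor_H_le_B hyp ((bor_mem_H_iff hyp).mpr ⟨0, i, by simp⟩)

theorem bor_iia (c : F) :
    ta * xa c * ta ∈ bor_B hyp ∨ ∃ b ∈ bor_B hyp, ∃ b' ∈ bor_B hyp, ta * xa c * ta = b * ta * b' := by
  by_cases hc : c = 0
  · left
    rw [hc, x_zero xa hyp.adda, mul_one]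
    exact bor_ta_sq hyp
  · right
    obtain ⟨c', k, hk⟩ := hyp.fama c hc
    refine ⟨xa c' * ha ^ k, (bor_B hyp).mul_mem (bor_xa_mem_B hyp c') (bor_pow_mem_B hyp k),
      xa c' * (ta * ta), (bor_B hyp).mul_mem (bor_xa_mem_B hyp c') (bor_ta_sq hyp), ?_⟩
    have e : ta * xa c * ta = (ta * xa c * ta⁻¹) * (ta * ta) := by group
    rw [e, hk]
    group

theorem bor_iib (c : F) :
    tb * xb c * tb ∈ bor_B hyp ∨ ∃ b ∈ bor_B hyp, ∃ b' ∈ bor_B hyp, tb * xb c * tb = b * tb * b' := by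
  by_cases hc : c = 0
  · left
    rw [hc, x_zero xb hyp.addb, mul_one]
    exact bor_tb_sq hyp
  · right
    obtain ⟨c', k, hk⟩ := hyp.famb c hc
    refine ⟨xb c' * hb ^ k, (bor_B hyp).mul_mem (bor_xb_mem_B hyp c') (bor_pow_mem_B' hyp k),
      xb c' * (tb * tb), (bor_B hyp).mul_mem (bor_xb_mem_B hyp c') (bor_tb_sq hyp), ?_⟩
    have e : tb * xb c * tb = (tb * xb c * tb⁻¹) * (tb * tb) := by group
    rw [e, hk]
    group

theorem bor_h2a (c : F) : (ta * tb) * xa c * (ta * tb)⁻¹ ∈ bor_B hyp := by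
  obtain ⟨c', hc'⟩ := ta_xab hyp c
  have e : (ta * tb) * xa c * (ta * tb)⁻¹ = ta * xab xa tb c * ta⁻¹ := by
    unfold xab
    group
  rw [e, hc']
  exact bor_xab_mem_B hyp c'

theorem bor_h2b (c : F) : (tb * ta) * xb c * (tb * ta)⁻¹ ∈ bor_B hyp := by
  obtain ⟨c', hc'⟩ := tb_x2ab hyp c
  have e : (tb * ta) * xb c * (tb * ta)⁻¹ = tb * x2ab xb ta c * tb⁻¹ := by
    unfold x2ab
    group
  rw [e, hc']
  exact bor_x2ab_mem_B hyp c'

theorem bor_h3a (c : F) : (ta * tb * ta) * xb c * (ta * tb * ta)⁻¹ ∈ bor_B hyp := by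
  obtain ⟨c', hc'⟩ := tb_x2ab hyp c
  obtain ⟨c'', hc''⟩ := ta_x2ab hyp c'
  have e : (ta * tb * ta) * xb c * (ta * tb * ta)⁻¹ =
      ta * (tb * x2ab xb ta c * tb⁻¹) * ta⁻¹ := by
    unfold x2ab
    group
  rw [e, hc', hc'']
  exact bor_xb_mem_B hyp c''

theorem bor_h3b (c : F) : (tb * ta * tb) * xa c * (tb * ta * tb)⁻¹ ∈ bor_B hyp := by
  obtain ⟨c', hc'⟩ := ta_xab hyp c
  obtain ⟨c'', hc''⟩ := tb_xab hyp c'
  have e : (tb * ta * tb) * xa c * (tb * ta * tb)⁻¹ =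
      tb * (ta * xab xa tb c * ta⁻¹) * tb⁻¹ := by
    unfold xab
    group
  rw [e, hc', hc'']
  exact bor_xa_mem_B hyp c''

theorem bor_braid : ∃ b ∈ bor_B hyp, ta * tb * ta * tb = tb * ta * tb * ta * b := by
  obtain ⟨i, j, hij⟩ := hyp.braid
  exact ⟨ha ^ i * hb ^ j, bor_H_le_B hyp ((bor_mem_H_iff hyp).mpr ⟨i, j, rfl⟩), hij⟩

theorem bor_gen (hgen : Subgroup.closure {xa 1, ta, ha, xb 1, tb, hb} = ⊤) :
    Subgroup.closure (((bor_B hyp : Subgroup G) : Set G) ∪ {ta, tb}) = ⊤ := by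
  rw [eq_top_iff, ← hgen]
  apply Subgroup.closure_mono
  intro g hg
  simp only [Set.mem_insert_iff, Set.mem_singleton_iff] at hg
  rcases hg with rfl | rfl | rfl | rfl | rfl | rfl
  · exact Or.inl (bor_xa_mem_B hyp 1)
  · exact Or.inr (by simp)
  · have := bor_pow_mem_B hyp 1
    rw [zpow_one] at this
    exact Or.inl this
  · exact Or.inl (bor_xb_mem_B hyp 1)
  · exact Or.inr (by simp)
  · have := bor_pow_mem_B' hyp 1
    rw [zpow_one] at this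
    exact Or.inl this

end main

end Cfsg.Agent.Sp4Pres
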