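import Cfsg.Agent.Sp4Pres.Hyp
import Cfsg.Agent.SL2Pres.A1
import Cfsg.Agent.SL2Pres.A2a

/-!
# Presentations of `Sp₄(F)`: the rank-one data from the `SL₂`-relations (piece L2)
-/

set_option autoImplicit false

namespace Cfsg.Agent.Sp4Pres

open Cfsg.Agent.SL2Pres Polynomial

variable {G : Type*} [Group G] {F : Type*} [Field F] [Fintype F] {p : ℕ} [Fact p.Prime]
  [Algebra (ZMod p) F]

/-- **Rank-one data**: from the `SL₂`-relations on `u, t, h` one gets the root homomorphism `x` with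
all the facts needed for `Sp4Hyp`. -/
theorem l2_data (ζ : Fˣ) (hζ : ∀ a : Fˣ, a ∈ Subgroup.zpowers ζ) (u t h : G) (hu : u ^ p = 1)
    (hcomm : ∀ i j : ℤ, Commute (cj h u i) (cj h u j))
    (hm : polyProd h u (minpoly (ZMod p) ((ζ : F) ^ 2)) = 1)
    (hth : t * h * t⁻¹ = h⁻¹)
    (hfam0 : t * u * t⁻¹ = u⁻¹ * t * u⁻¹)
    (Pζ Pν : (ZMod p)[X]) (hPζ : aeval ((ζ : F) ^ 2) Pζ = (ζ : F))
    (hPν : aeval ((ζ : F) ^ 2) Pν = -(ζ : F)⁻¹)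
    (hν : t * polyProd h u Pζ * t⁻¹ = polyProd h u Pν * h⁻¹ * t * polyProd h u Pν) :
    ∃ x : F → G, (∀ a b, x (a + b) = x a * x b) ∧ x 1 = u ∧
      (∀ c, h * x c * h⁻¹ = x ((ζ : F) ^ 2 * c)) ∧
      (∀ c : F, c ≠ 0 → ∃ (c' : F) (k : ℤ), t * x c * t⁻¹ = x c' * h ^ k * t * x c') ∧
      h ^ (Fintype.card F - 1) = 1 ∧
      ((2 : F) ≠ 0 → t ^ 2 = 1 → h ^ ((Fintype.card F - 1) / 2) = 1) := by
  obtain ⟨x, hadd, hx1, hconj⟩ := exists_hom ((ζ : F) ^ 2) (adjoin_sq_eq_top ζ hζ) h u hu hcomm hm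
  have hxm1 : x (-1) = u⁻¹ := by rw [x_neg x hadd, hx1]
  have hf0 : t * x 1 * t⁻¹ = x (-1) * t * x (-1) := by rw [hx1, hxm1]; exact hfam0
  have hf1 : t * x (ζ : F) * t⁻¹ = x (-(ζ : F)⁻¹) * h⁻¹ * t * x (-(ζ : F)⁻¹) := by
    have e1 := polyProd_eq x hadd h u _ hx1 hconj Pζ
    have e2 := polyProd_eq x hadd h u _ hx1 hconj Pν
    rw [hPζ] at e1
    rw [hPν] at e2
    rw [← e1, ← e2]
    exact hν
  refine ⟨x, hadd, hx1, hconj, ?_, h_pow_card_sub_one x t h ζ hadd hconj hth hf0 hf1, ?_⟩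
  · intro c hc
    obtain ⟨n, hn⟩ := Subgroup.mem_zpowers_iff.mp (hζ (Units.mk0 c hc))
    have hn' : ((ζ ^ n : Fˣ) : F) = c := by rw [hn, Units.val_mk0]
    have := fam x t h ζ hadd hconj hth hf0 hf1 n
    rw [hn'] at this
    exact ⟨_, _, this⟩
  · intro h2 ht1
    exact h_pow_half x t h ζ hadd hζ hconj hth hf0 hf1 h2 ht1

end Cfsg.Agent.Sp4Pres
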