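import Mathlib
import Cfsg.Agent.Lead.SpBNE
import Cfsg.Agent.SL2Pres.B

set_option autoImplicit false

/-!
# `Sp_4(F)`: the two fundamental `SL_2`'s and the root elements (helper5)

On top of the lead's `Lead/SpFus*` (`levGL`, `levSL`, `sieg`, `siegL`, `pwS`).
Simple roots: `α` short, `β` long; positive roots `α, β, α+β, 2α+β`.
* `m5_ia = levSL : SL_2(F) →* Sp_4(F)`, `A ↦ [A 0; 0 A⁻ᵀ]`  (root `α`);
* `m5_ib = pwS 1 : SL_2(F) →* Sp_4(F)`, `A` on the coordinates `inl 1, inr 1` (root `β`);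
* `m5_sg p q r = [1 S; 0 1]`, `S = [p q; q r]` (`= x_{2α+β}(p) x_{α+β}(q) x_β(r)`), `m5_sgL` lower.
-/

namespace Cfsg.Agent.Sp4Pres

open Matrix Cfsg.Agent.Lead.SpFus Cfsg.Agent.SL2Pres

variable {F : Type*} [Field F]

/-- the `SL_2` of the short simple root `α` -/
def m5_ia : SpecialLinearGroup (Fin 2) F →* symplecticGroup (Fin 2) F := levSL

theorem m5_ia_coe (A : SpecialLinearGroup (Fin 2) F) :
    ((m5_ia A : symplecticGroup (Fin 2) F) : Matrix (Fin 2 ⊕ Fin 2) (Fin 2 ⊕ Fin 2) F) =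
      fromBlocks (A : Matrix (Fin 2) (Fin 2) F) 0 0
        (!![(A : Matrix (Fin 2) (Fin 2) F) 1 1, -(A : Matrix (Fin 2) (Fin 2) F) 1 0;
          -(A : Matrix (Fin 2) (Fin 2) F) 0 1, (A : Matrix (Fin 2) (Fin 2) F) 0 0]) := by
  show ((levGL (SpecialLinearGroup.toGL A) : symplecticGroup (Fin 2) F) :
    Matrix (Fin 2 ⊕ Fin 2) (Fin 2 ⊕ Fin 2) F) = _
  rw [levGL_coe]
  congr 1
  rw [← map_inv]
  show ((A⁻¹ : SpecialLinearGroup (Fin 2) F) : Matrix (Fin 2) (Fin 2) F)ᵀ = _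
  rw [Matrix.SpecialLinearGroup.coe_inv, Matrix.adjugate_fin_two]
  ext i j
  fin_cases i <;> fin_cases j <;> rfl

/-- the `SL_2` of the long simple root `β` -/
def m5_ib : SpecialLinearGroup (Fin 2) F →* symplecticGroup (Fin 2) F :=
  MonoidHom.mk' (pwS (1 : Fin 2)) (pwS_mul 1)

theorem m5_ib_coe (A : SpecialLinearGroup (Fin 2) F) :
    ((m5_ib A : symplecticGroup (Fin 2) F) : Matrix (Fin 2 ⊕ Fin 2) (Fin 2 ⊕ Fin 2) F) =
      fromBlocks !![1, 0; 0, (A : Matrix (Fin 2) (Fin 2) F) 0 0]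
        !![0, 0; 0, (A : Matrix (Fin 2) (Fin 2) F) 0 1]
        !![0, 0; 0, (A : Matrix (Fin 2) (Fin 2) F) 1 0]
        !![1, 0; 0, (A : Matrix (Fin 2) (Fin 2) F) 1 1] := by
  show ((pwS (1 : Fin 2) A : symplecticGroup (Fin 2) F) :
    Matrix (Fin 2 ⊕ Fin 2) (Fin 2 ⊕ Fin 2) F) = _
  rw [pwS_coe]
  congr 1 <;>
  (ext i j
   fin_cases i <;> fin_cases j <;> simp [Function.update])

theorem m5_symm (p q r : F) : (!![p, q; q, r] : Matrix (Fin 2) (Fin 2) F).IsSymm := by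
  ext i j
  fin_cases i <;> fin_cases j <;> rfl

/-- `[1 S; 0 1]` with `S = [p q; q r]` -/
def m5_sg (p q r : F) : symplecticGroup (Fin 2) F := sieg !![p, q; q, r] (m5_symm p q r)

/-- `[1 0; S 1]` with `S = [p q; q r]` -/
def m5_sgL (p q r : F) : symplecticGroup (Fin 2) F := siegL !![p, q; q, r] (m5_symm p q r)

theorem m5_sg_coe (p q r : F) :
    ((m5_sg p q r : symplecticGroup (Fin 2) F) : Matrix (Fin 2 ⊕ Fin 2) (Fin 2 ⊕ Fin 2) F) =
      fromBlocks 1 !![p, q; q, r] 0 1 := rfl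

theorem m5_sgL_coe (p q r : F) :
    ((m5_sgL p q r : symplecticGroup (Fin 2) F) : Matrix (Fin 2 ⊕ Fin 2) (Fin 2 ⊕ Fin 2) F) =
      fromBlocks 1 0 !![p, q; q, r] 1 := rfl

theorem m5_sg_mul (p q r p' q' r' : F) :
    m5_sg p q r * m5_sg p' q' r' = m5_sg (p + p') (q + q') (r + r') := by
  unfold m5_sg
  rw [sieg_mul]
  apply sieg_congr
  ext i j
  fin_cases i <;> fin_cases j <;> simp

theorem m5_sgL_mul (p q r p' q' r' : F) :
    m5_sgL p q r * m5_sgL p' q' r' = m5_sgL (p + p') (q + q') (r + r') := by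
  unfold m5_sgL
  rw [siegL_mul]
  apply siegL_congr
  ext i j
  fin_cases i <;> fin_cases j <;> simp

theorem m5_sg_zero : m5_sg (0 : F) 0 0 = 1 := by
  unfold m5_sg
  rw [← sieg_zero]
  apply sieg_congr
  ext i j
  fin_cases i <;> fin_cases j <;> rfl

theorem m5_sgL_zero : m5_sgL (0 : F) 0 0 = 1 := by
  unfold m5_sgL
  rw [← siegL_zero]
  apply siegL_congr
  ext i j
  fin_cases i <;> fin_cases j <;> rfl

theorem m5_sg_inv (p q r : F) : (m5_sg p q r)⁻¹ = m5_sg (-p) (-q) (-r) := by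
  rw [inv_eq_iff_eq_inv, eq_inv_iff_mul_eq_one, m5_sg_mul, add_neg_cancel, add_neg_cancel,
    add_neg_cancel, m5_sg_zero]

theorem m5_sgL_inv (p q r : F) : (m5_sgL p q r)⁻¹ = m5_sgL (-p) (-q) (-r) := by
  rw [inv_eq_iff_eq_inv, eq_inv_iff_mul_eq_one, m5_sgL_mul, add_neg_cancel, add_neg_cancel,
    add_neg_cancel, m5_sgL_zero]

theorem m5_sg_injective {p q r p' q' r' : F} (h : m5_sg p q r = m5_sg p' q' r') :
    p = p' ∧ q = q' ∧ r = r' := by
  have h1 := congrArg (fun g : symplecticGroup (Fin 2) F =>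
    (g : Matrix (Fin 2 ⊕ Fin 2) (Fin 2 ⊕ Fin 2) F)) h
  simp only [m5_sg_coe] at h1
  have h2 := (fromBlocks_inj.mp h1).2.1
  refine ⟨?_, ?_, ?_⟩
  · simpa using congrFun (congrFun h2 0) 0
  · simpa using congrFun (congrFun h2 0) 1
  · simpa using congrFun (congrFun h2 1) 1

/-! ### The root elements -/

/-- `x_α(t)` -/
def m5_xa (t : F) : symplecticGroup (Fin 2) F := m5_ia (xM t)
/-- `x_{-α}(t)` -/
def m5_ya (t : F) : symplecticGroup (Fin 2) F := m5_ia (b_yM t)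
/-- `x_β(t)` -/
def m5_xb (t : F) : symplecticGroup (Fin 2) F := m5_ib (xM t)
/-- `x_{-β}(t)` -/
def m5_yb (t : F) : symplecticGroup (Fin 2) F := m5_ib (b_yM t)

theorem m5_xa_coe (t : F) :
    ((m5_xa t : symplecticGroup (Fin 2) F) : Matrix (Fin 2 ⊕ Fin 2) (Fin 2 ⊕ Fin 2) F) =
      fromBlocks !![1, t; 0, 1] 0 0 !![1, 0; -t, 1] := by
  unfold m5_xa
  rw [m5_ia_coe]
  congr 1
  simp [xM]

theorem m5_ya_coe (t : F) :
    ((m5_ya t : symplecticGroup (Fin 2) F) : Matrix (Fin 2 ⊕ Fin 2) (Fin 2 ⊕ Fin 2) F) =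
      fromBlocks !![1, 0; t, 1] 0 0 !![1, -t; 0, 1] := by
  unfold m5_ya
  rw [m5_ia_coe]
  congr 1
  simp [b_yM]

theorem m5_xb_eq (t : F) : m5_xb t = m5_sg 0 0 t := by
  apply Subtype.ext
  unfold m5_xb
  rw [m5_ib_coe, m5_sg_coe]
  congr 1 <;> (ext i j; fin_cases i <;> fin_cases j <;> simp [xM])

theorem m5_yb_eq (t : F) : m5_yb t = m5_sgL 0 0 t := by
  apply Subtype.ext
  unfold m5_yb
  rw [m5_ib_coe, m5_sgL_coe]
  congr 1 <;> (ext i j; fin_cases i <;> fin_cases j <;> simp [b_yM])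

/-- `x_α(s) · sg(p,q,r) · x_α(s)⁻¹ = sg(p + 2sq + s²r, q + sr, r)` -/
theorem m5_xa_sg (s p q r : F) :
    m5_xa s * m5_sg p q r = m5_sg (p + 2 * s * q + s ^ 2 * r) (q + s * r) r * m5_xa s := by
  apply Subtype.ext
  rw [Submonoid.coe_mul, Submonoid.coe_mul, m5_xa_coe, m5_sg_coe, m5_sg_coe, fromBlocks_multiply,
    fromBlocks_multiply]
  congr 1 <;>
  (ext i j
   fin_cases i <;> fin_cases j <;> simp [Matrix.mul_apply, Fin.sum_univ_two] <;> ring)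

/-- `x_{-α}(s) · sg(p,q,r) · x_{-α}(s)⁻¹ = sg(p, q + sp, r + 2sq + s²p)` -/
theorem m5_ya_sg (s p q r : F) :
    m5_ya s * m5_sg p q r = m5_sg p (q + s * p) (r + 2 * s * q + s ^ 2 * p) * m5_ya s := by
  apply Subtype.ext
  rw [Submonoid.coe_mul, Submonoid.coe_mul, m5_ya_coe, m5_sg_coe, m5_sg_coe, fromBlocks_multiply,
    fromBlocks_multiply]
  congr 1 <;>
  (ext i j
   fin_cases i <;> fin_cases j <;> simp [Matrix.mul_apply, Fin.sum_univ_two] <;> ring)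

end Cfsg.Agent.Sp4Pres
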