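import Mathlib
import Cfsg.Agent.Sp4Pres.H5_Root

set_option autoImplicit false

/-!
# `Sp_4(F)` is generated by the two fundamental `SL_2`'s (helper5)
-/

namespace Cfsg.Agent.Sp4Pres

open Matrix Cfsg.Agent.Lead.SpFus Cfsg.Agent.Lead.SpBN Cfsg.Agent.SL2Pres

variable {F : Type*} [Field F]

/-- the matrix `diag(1, c)` of `GL_2(F)` -/
def m5_d1 (c : Fˣ) : GL (Fin 2) F :=
  ⟨!![1, 0; 0, (c : F)], !![1, 0; 0, ((c⁻¹ : Fˣ) : F)],
    by ext i j; fin_cases i <;> fin_cases j <;> simp,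
    by ext i j; fin_cases i <;> fin_cases j <;> simp⟩

theorem m5_levGL_d1 (c : Fˣ) : levGL (m5_d1 c) = m5_ib (hM c) := by
  apply Subtype.ext
  rw [levGL_coe, m5_ib_coe]
  congr 1 <;>
  (ext i j
   fin_cases i <;> fin_cases j <;> simp [m5_d1, hM])

theorem m5_det_d1 (c : Fˣ) : (m5_d1 c : Matrix (Fin 2) (Fin 2) F).det = c := by
  show (!![1, 0; 0, (c : F)] : Matrix (Fin 2) (Fin 2) F).det = c
  rw [Matrix.det_fin_two_of]
  simp

/-- every Levi element lies in the subgroup generated by the two `SL_2`'s -/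
theorem m5_levGL_mem (K : Subgroup (symplecticGroup (Fin 2) F))
    (ha : ∀ A : SpecialLinearGroup (Fin 2) F, m5_ia A ∈ K)
    (hb : ∀ A : SpecialLinearGroup (Fin 2) F, m5_ib A ∈ K) (A : GL (Fin 2) F) :
    levGL A ∈ K := by
  have hdet : ((m5_d1 (Matrix.GeneralLinearGroup.det A))⁻¹ * A : GL (Fin 2) F).det = 1 := by
    rw [map_mul, map_inv]
    have : (m5_d1 (Matrix.GeneralLinearGroup.det A)).det = Matrix.GeneralLinearGroup.det A := by
      apply Units.ext
      rw [Matrix.GeneralLinearGroup.val_det_apply, m5_det_d1]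
    rw [this, inv_mul_cancel]
  have hdet' : (((m5_d1 (Matrix.GeneralLinearGroup.det A))⁻¹ * A : GL (Fin 2) F) :
      Matrix (Fin 2) (Fin 2) F).det = 1 := by
    have := congrArg Units.val hdet
    rwa [Matrix.GeneralLinearGroup.val_det_apply] at this
  have e : A = m5_d1 (Matrix.GeneralLinearGroup.det A) *
      SpecialLinearGroup.toGL ⟨_, hdet'⟩ := by
    apply Units.ext
    rw [Matrix.GeneralLinearGroup.coe_mul]
    show (A : Matrix (Fin 2) (Fin 2) F) = _ * (((m5_d1 (Matrix.GeneralLinearGroup.det A))⁻¹ * A :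
      GL (Fin 2) F) : Matrix (Fin 2) (Fin 2) F)
    rw [← Matrix.GeneralLinearGroup.coe_mul, mul_inv_cancel_left]
  rw [e, map_mul, m5_levGL_d1]
  exact K.mul_mem (hb _) (ha _)

/-- the Weyl element of `GL_2` -/
theorem m5_sg_swap (p q r : F) :
    m5_ia tM * m5_sg p q r * (m5_ia tM)⁻¹ = m5_sg r (-q) p := by
  rw [mul_inv_eq_iff_eq_mul]
  apply Subtype.ext
  rw [Submonoid.coe_mul, Submonoid.coe_mul, m5_ia_coe, m5_sg_coe, m5_sg_coe, fromBlocks_multiply,
    fromBlocks_multiply]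
  congr 1 <;>
  (ext i j
   fin_cases i <;> fin_cases j <;> simp [tM])

/-- every Siegel element lies in the subgroup generated by the two `SL_2`'s -/
theorem m5_sg_mem (K : Subgroup (symplecticGroup (Fin 2) F))
    (ha : ∀ A : SpecialLinearGroup (Fin 2) F, m5_ia A ∈ K)
    (hb : ∀ A : SpecialLinearGroup (Fin 2) F, m5_ib A ∈ K) (p q r : F) : m5_sg p q r ∈ K := by
  have h1 : ∀ t : F, m5_sg 0 0 t ∈ K := fun t => by
    rw [← m5_xb_eq]
    exact hb _
  have h2 : ∀ t : F, m5_sg t 0 0 ∈ K := fun t => by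
    have := m5_sg_swap (0 : F) 0 t
    rw [neg_zero] at this
    rw [← this]
    exact K.mul_mem (K.mul_mem (ha _) (h1 t)) (K.inv_mem (ha _))
  have h3 : ∀ t : F, m5_sg 0 t 0 ∈ K := fun t => by
    have e := m5_xa_sg (1 : F) 0 0 t
    have e2 : m5_sg t t t = m5_xa 1 * m5_sg 0 0 t * (m5_xa 1)⁻¹ := by
      rw [eq_mul_inv_iff_mul_eq, e]
      congr 2 <;> ring
    have hm : m5_sg t t t ∈ K := by
      rw [e2]
      exact K.mul_mem (K.mul_mem (ha _) (h1 t)) (K.inv_mem (ha _))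
    have e3 : m5_sg 0 t 0 = m5_sg t t t * m5_sg (-t) 0 0 * m5_sg 0 0 (-t) := by
      rw [m5_sg_mul, m5_sg_mul]
      congr 1 <;> ring
    rw [e3]
    exact K.mul_mem (K.mul_mem hm (h2 _)) (h1 _)
  have e4 : m5_sg p q r = m5_sg p 0 0 * m5_sg 0 q 0 * m5_sg 0 0 r := by
    rw [m5_sg_mul, m5_sg_mul]
    congr 1 <;> ring
  rw [e4]
  exact K.mul_mem (K.mul_mem (h2 _) (h3 _)) (h1 _)

theorem m5_sieg_eq (S : Matrix (Fin 2) (Fin 2) F) (hS : S.IsSymm) :
    sieg S hS = m5_sg (S 0 0) (S 0 1) (S 1 1) := by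
  apply sieg_congr
  ext i j
  fin_cases i <;> fin_cases j <;> simp
  exact congrFun (congrFun hS.eq 0) 1

/-- **Generation.** A subgroup of `Sp_4(F)` containing the two fundamental `SL_2`'s is everything. -/
theorem m5_gen (K : Subgroup (symplecticGroup (Fin 2) F))
    (ha : ∀ A : SpecialLinearGroup (Fin 2) F, m5_ia A ∈ K)
    (hb : ∀ A : SpecialLinearGroup (Fin 2) F, m5_ib A ∈ K) : K = ⊤ := by
  have hB : Bsub F (1 + 1) ≤ K := by
    intro g hg
    obtain ⟨A, S, hS, -, -, rfl⟩ := exists_levGL_sieg_of_mem_Bsub hg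
    rw [m5_sieg_eq]
    exact K.mul_mem (m5_levGL_mem K ha hb A) (m5_sg_mem K ha hb _ _ _)
  have hS : Ssub F 1 ⊆ (K : Set (symplecticGroup (Fin 2) F)) := by
    rintro _ ⟨o, rfl⟩
    rcases o with _ | i
    · exact hb (Cfsg.Agent.Lead.SpFus.wSL F)
    · exact ha _
  have hN : Nsub F (1 + 1) ≤ K := by
    rw [← closure_sup_eq (K := F) (k := 1)]
    exact sup_le ((Subgroup.closure_le K).mpr hS) (inf_le_left.trans hB)
  rw [eq_top_iff, ← sup_eq_top' (K := F) (m := 1 + 1)]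
  exact sup_le hB hN

end Cfsg.Agent.Sp4Pres
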