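import Cfsg.Agent.SL2Pres.Defs
import Cfsg.Agent.SL2Pres.Fd

/-!
# Presentations of `Sp₄(F)` and `PSp₄(F)`: the abstract hypotheses (shared base file)

`α` is the short simple root, `β` the long one; positive roots `α, β, α+β, 2α+β`.
`xa, xb : F → G` are the root homomorphisms of the simple roots, `ta, tb` the Weyl lifts, `ha, hb` the
torus generators (`ha = h_α(ζ)`, `hb = h_β(ζ)`), `xab c = tb xa(c) tb⁻¹` (root `α+β`),
`x2ab c = ta xb(c) ta⁻¹` (root `2α+β`).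
-/

set_option autoImplicit false

namespace Cfsg.Agent.Sp4Pres

open Cfsg.Agent.SL2Pres Polynomial

variable {G : Type*} [Group G] {F : Type*} [Field F]

/-- the root element of `α+β` -/
def xab (xa : F → G) (tb : G) (c : F) : G := tb * xa c * tb⁻¹

/-- the root element of `2α+β` -/
def x2ab (xb : F → G) (ta : G) (c : F) : G := ta * xb c * ta⁻¹

/-- the torus `{ha^i hb^j}` -/
def torus (ha hb : G) : Set G := {g | ∃ i j : ℤ, g = ha ^ i * hb ^ j}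

/-- **The hypotheses on the abstract group** (all consequences of the relators). -/
structure Sp4Hyp (ζ : Fˣ) (xa xb : F → G) (ta ha tb hb : G) (Ka Kb : ℕ) : Prop where
  hζ : ∀ a : Fˣ, a ∈ Subgroup.zpowers ζ
  adda : ∀ a b, xa (a + b) = xa a * xa b
  addb : ∀ a b, xb (a + b) = xb a * xb b
  ha_xa : ∀ c, ha * xa c * ha⁻¹ = xa ((ζ : F) ^ 2 * c)
  hb_xb : ∀ c, hb * xb c * hb⁻¹ = xb ((ζ : F) ^ 2 * c)
  hb_xa : ∀ c, hb * xa c * hb⁻¹ = xa ((ζ : F)⁻¹ * c)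
  ha_xb : ∀ c, ha * xb c * ha⁻¹ = xb (((ζ : F)⁻¹) ^ 2 * c)
  hcomm : ha * hb = hb * ha
  Ka_pos : 0 < Ka
  Kb_pos : 0 < Kb
  ha_pow : ha ^ Ka = 1
  hb_pow : hb ^ Kb = 1
  ta_ha : ta * ha * ta⁻¹ = ha⁻¹
  tb_hb : tb * hb * tb⁻¹ = hb⁻¹
  ta_hb : ta * hb * ta⁻¹ = ha * hb
  tb_ha : tb * ha * tb⁻¹ = ha * hb ^ 2
  ta_sq : ∃ k : ℕ, ta ^ 2 = ha ^ k
  tb_sq : ∃ k : ℕ, tb ^ 2 = hb ^ k
  fama : ∀ c : F, c ≠ 0 → ∃ (c' : F) (k : ℤ), ta * xa c * ta⁻¹ = xa c' * ha ^ k * ta * xa c'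
  famb : ∀ c : F, c ≠ 0 → ∃ (c' : F) (k : ℤ), tb * xb c * tb⁻¹ = xb c' * hb ^ k * tb * xb c'
  braid : ∃ i j : ℤ, ta * tb * ta * tb = tb * ta * tb * ta * (ha ^ i * hb ^ j)
  s1 : ∃ e : F, (tb⁻¹ * ta * tb) * xa 1 * (tb⁻¹ * ta * tb)⁻¹ = xa e
  s2 : ∃ e : F, (ta⁻¹ * tb * ta) * xb 1 * (ta⁻¹ * tb * ta)⁻¹ = xb e
  c1 : Commute (xb 1) (ta * xb 1 * ta⁻¹)
  c2 : Commute (xa 1) (ta * xb 1 * ta⁻¹)
  c3 : ∃ d : F, xa 1 * (tb * xa 1 * tb⁻¹) * (xa 1)⁻¹ * (tb * xa 1 * tb⁻¹)⁻¹ = ta * xb d * ta⁻¹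
  c4 : ∃ c d : F, xa 1 * xb 1 * (xa 1)⁻¹ * (xb 1)⁻¹ = (tb * xa c * tb⁻¹) * (ta * xb d * ta⁻¹)

/-- **Spreading a conjugation formula from `x 1` to all of `x(F)`**: if `y` commutes with `h`
(`h x(c) h⁻¹ = x(ζ² c)`) and `y x(1) y⁻¹ = x(l)`, then `y x(c) y⁻¹ = x(l c)` for all `c`. -/
theorem spread_conj [Fintype F] (ζ : Fˣ) (hζ : ∀ a : Fˣ, a ∈ Subgroup.zpowers ζ) (x : F → G)
    (hadd : ∀ a b, x (a + b) = x a * x b) (h : G)
    (hconj : ∀ c, h * x c * h⁻¹ = x ((ζ : F) ^ 2 * c)) (y : G) (hy : y * h = h * y) (l : F)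
    (h1 : y * x 1 * y⁻¹ = x l) : ∀ c, y * x c * y⁻¹ = x (l * c) := by
  obtain ⟨p, hp⟩ := CharP.exists F
  have : Fact p.Prime := ⟨CharP.char_is_prime F p⟩
  let _ : Algebra (ZMod p) F := ZMod.algebra F p
  have hadj := adjoin_sq_eq_top (p := p) ζ hζ
  intro c
  obtain ⟨P, rfl⟩ := exists_poly _ hadj c
  have e1 := polyProd_eq x hadd h (x 1) ((ζ : F) ^ 2) rfl hconj P
  -- the twisted homomorphism
  have hadd' : ∀ a b, x (l * (a + b)) = x (l * a) * x (l * b) := by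
    intro a b; rw [mul_add, hadd]
  have hconj' : ∀ c, h * x (l * c) * h⁻¹ = x (l * ((ζ : F) ^ 2 * c)) := by
    intro c; rw [hconj]; congr 1; ring
  have e2 := polyProd_eq (fun c => x (l * c)) hadd' h (x l) ((ζ : F) ^ 2) (by simp) hconj' P
  have e3 := map_polyProd (MulAut.conj y).toMonoidHom h (x 1) P
  simp only [MulEquiv.toMonoidHom_eq_coe, MonoidHom.coe_coe, MulAut.conj_apply] at e3
  have hyh : y * h * y⁻¹ = h := by rw [hy, mul_inv_cancel_right]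
  rw [hyh, h1, e1, e2] at e3
  exact e3

end Cfsg.Agent.Sp4Pres
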