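import Cfsg.Agent.Sp4Pres.Hyp
import Cfsg.Agent.SL2Pres.B
import Cfsg.Agent.Sp4Pres.H5_Gen

set_option autoImplicit false

/-!
# S2293 piece Mat (helper5): the matrix side of the presentation of `Sp_4(F)`

`iotaA = levSL` (`A ↦ diag(A, A⁻ᵀ)`), `iotaB = pwS 1` (`SL_2` on `⟨e₂, f₂⟩`), the twelve cross
relators as matrix identities, and generation.
-/

namespace Cfsg.Agent.Sp4Pres

open Cfsg.Agent.SL2Pres Matrix

section mat

variable {F : Type*} [Field F]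

/-- `SL₂` on the short root `α`: `A ↦ diag(A, A⁻ᵀ)` -/
def iotaA : SpecialLinearGroup (Fin 2) F →* symplecticGroup (Fin 2) F := m5_ia

/-- `SL₂` on the long root `β`: acts on `⟨e₂, f₂⟩` -/
def iotaB : SpecialLinearGroup (Fin 2) F →* symplecticGroup (Fin 2) F := m5_ib

/-! ### explicit matrices -/

theorem m5_A_h (a : Fˣ) :
    ((iotaA (hM a) : symplecticGroup (Fin 2) F) : Matrix (Fin 2 ⊕ Fin 2) (Fin 2 ⊕ Fin 2) F) =
      fromBlocks !![(a : F), 0; 0, (a : F)⁻¹] 0 0 !![(a : F)⁻¹, 0; 0, (a : F)] := by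
  show ((m5_ia (hM a) : symplecticGroup (Fin 2) F) : Matrix (Fin 2 ⊕ Fin 2) (Fin 2 ⊕ Fin 2) F) = _
  rw [m5_ia_coe]
  congr 1 <;> simp [hM]

theorem m5_A_x (c : F) :
    ((iotaA (xM c) : symplecticGroup (Fin 2) F) : Matrix (Fin 2 ⊕ Fin 2) (Fin 2 ⊕ Fin 2) F) =
      fromBlocks !![1, c; 0, 1] 0 0 !![1, 0; -c, 1] := m5_xa_coe c

theorem m5_A_t :
    ((iotaA tM : symplecticGroup (Fin 2) F) : Matrix (Fin 2 ⊕ Fin 2) (Fin 2 ⊕ Fin 2) F) =
      fromBlocks !![0, 1; -1, 0] 0 0 !![0, 1; -1, 0] := by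
  show ((m5_ia tM : symplecticGroup (Fin 2) F) : Matrix (Fin 2 ⊕ Fin 2) (Fin 2 ⊕ Fin 2) F) = _
  rw [m5_ia_coe]
  congr 1 <;> simp [tM]

theorem m5_B_h (a : Fˣ) :
    ((iotaB (hM a) : symplecticGroup (Fin 2) F) : Matrix (Fin 2 ⊕ Fin 2) (Fin 2 ⊕ Fin 2) F) =
      fromBlocks !![1, 0; 0, (a : F)] 0 0 !![1, 0; 0, (a : F)⁻¹] := by
  show ((m5_ib (hM a) : symplecticGroup (Fin 2) F) : Matrix (Fin 2 ⊕ Fin 2) (Fin 2 ⊕ Fin 2) F) = _
  rw [m5_ib_coe]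
  congr 1 <;> (ext i j; fin_cases i <;> fin_cases j <;> simp [hM])

theorem m5_B_x (c : F) :
    ((iotaB (xM c) : symplecticGroup (Fin 2) F) : Matrix (Fin 2 ⊕ Fin 2) (Fin 2 ⊕ Fin 2) F) =
      fromBlocks 1 !![0, 0; 0, c] 0 1 := by
  show ((m5_ib (xM c) : symplecticGroup (Fin 2) F) : Matrix (Fin 2 ⊕ Fin 2) (Fin 2 ⊕ Fin 2) F) = _
  rw [m5_ib_coe]
  congr 1 <;> (ext i j; fin_cases i <;> fin_cases j <;> simp [xM])

theorem m5_B_t :
    ((iotaB tM : symplecticGroup (Fin 2) F) : Matrix (Fin 2 ⊕ Fin 2) (Fin 2 ⊕ Fin 2) F) =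
      fromBlocks !![1, 0; 0, 0] !![0, 0; 0, 1] !![0, 0; 0, -1] !![1, 0; 0, 0] := by
  show ((m5_ib tM : symplecticGroup (Fin 2) F) : Matrix (Fin 2 ⊕ Fin 2) (Fin 2 ⊕ Fin 2) F) = _
  rw [m5_ib_coe]
  congr 1 <;> (ext i j; fin_cases i <;> fin_cases j <;> simp [tM])

/-- `tM⁻¹` -/
def m5_tMi : SpecialLinearGroup (Fin 2) F := ⟨!![0, -1; 1, 0], by simp [Matrix.det_fin_two]⟩

theorem m5_tM_inv : (tM : SpecialLinearGroup (Fin 2) F)⁻¹ = m5_tMi := by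
  rw [inv_eq_iff_mul_eq_one]
  ext i j
  rw [Matrix.SpecialLinearGroup.coe_mul]
  fin_cases i <;> fin_cases j <;> simp [tM, m5_tMi]

theorem m5_A_ti :
    (((iotaA tM)⁻¹ : symplecticGroup (Fin 2) F) : Matrix (Fin 2 ⊕ Fin 2) (Fin 2 ⊕ Fin 2) F) =
      fromBlocks !![0, -1; 1, 0] 0 0 !![0, -1; 1, 0] := by
  rw [← map_inv, m5_tM_inv]
  show ((m5_ia m5_tMi : symplecticGroup (Fin 2) F) : Matrix (Fin 2 ⊕ Fin 2) (Fin 2 ⊕ Fin 2) F) = _
  rw [m5_ia_coe]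
  congr 1 <;> simp [m5_tMi]

theorem m5_B_ti :
    (((iotaB tM)⁻¹ : symplecticGroup (Fin 2) F) : Matrix (Fin 2 ⊕ Fin 2) (Fin 2 ⊕ Fin 2) F) =
      fromBlocks !![1, 0; 0, 0] !![0, 0; 0, -1] !![0, 0; 0, 1] !![1, 0; 0, 0] := by
  rw [← map_inv, m5_tM_inv]
  show ((m5_ib m5_tMi : symplecticGroup (Fin 2) F) : Matrix (Fin 2 ⊕ Fin 2) (Fin 2 ⊕ Fin 2) F) = _
  rw [m5_ib_coe]
  congr 1 <;> (ext i j; fin_cases i <;> fin_cases j <;> simp [m5_tMi])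

/-! ### the twelve relators -/

theorem mat_w1 (a b : Fˣ) :
    (iotaA (hM a) : symplecticGroup (Fin 2) F) * iotaB (hM b) = iotaB (hM b) * iotaA (hM a) := by
  apply Subtype.ext
  simp only [Submonoid.coe_mul, m5_A_h, m5_B_h, fromBlocks_multiply]
  congr 1 <;> (ext i j; fin_cases i <;> fin_cases j <;> simp [mul_comm])

theorem mat_w2 (a : Fˣ) (c : F) :
    (iotaB (hM a) : symplecticGroup (Fin 2) F) * iotaA (xM c) * (iotaB (hM a))⁻¹ =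
      iotaA (xM ((a : F)⁻¹ * c)) := by
  rw [mul_inv_eq_iff_eq_mul]
  apply Subtype.ext
  simp only [Submonoid.coe_mul, m5_A_x, m5_B_h, fromBlocks_multiply]
  have ha : (a : F) ≠ 0 := a.ne_zero
  congr 1 <;> (ext i j; fin_cases i <;> fin_cases j <;> simp <;> field_simp)

theorem mat_w3 (a : Fˣ) (c : F) :
    (iotaA (hM a) : symplecticGroup (Fin 2) F) * iotaB (xM c) * (iotaA (hM a))⁻¹ =
      iotaB (xM (((a : F)⁻¹) ^ 2 * c)) := by
  rw [mul_inv_eq_iff_eq_mul]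
  apply Subtype.ext
  simp only [Submonoid.coe_mul, m5_A_h, m5_B_x, fromBlocks_multiply]
  have ha : (a : F) ≠ 0 := a.ne_zero
  congr 1 <;> (ext i j; fin_cases i <;> fin_cases j <;> simp <;> field_simp)

theorem mat_w4 (a : Fˣ) :
    (iotaA tM : symplecticGroup (Fin 2) F) * iotaB (hM a) * (iotaA tM)⁻¹ =
      iotaA (hM a) * iotaB (hM a) := by
  rw [mul_inv_eq_iff_eq_mul]
  apply Subtype.ext
  simp only [Submonoid.coe_mul, m5_A_h, m5_B_h, m5_A_t, fromBlocks_multiply]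
  have ha : (a : F) ≠ 0 := a.ne_zero
  congr 1 <;> (ext i j; fin_cases i <;> fin_cases j <;> simp)

theorem mat_w5 (a : Fˣ) :
    (iotaB tM : symplecticGroup (Fin 2) F) * iotaA (hM a) * (iotaB tM)⁻¹ =
      iotaA (hM a) * iotaB (hM a) ^ 2 := by
  rw [mul_inv_eq_iff_eq_mul, pow_two]
  apply Subtype.ext
  simp only [Submonoid.coe_mul, m5_A_h, m5_B_h, m5_B_t, fromBlocks_multiply]
  have ha : (a : F) ≠ 0 := a.ne_zero
  congr 1 <;> (ext i j; fin_cases i <;> fin_cases j <;> simp)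

theorem m5_AtBt :
    ((iotaA tM * iotaB tM : symplecticGroup (Fin 2) F) :
      Matrix (Fin 2 ⊕ Fin 2) (Fin 2 ⊕ Fin 2) F) =
      fromBlocks !![0, 0; -1, 0] !![0, 1; 0, 0] !![0, -1; 0, 0] !![0, 0; -1, 0] := by
  simp only [Submonoid.coe_mul, m5_A_t, m5_B_t, fromBlocks_multiply]
  congr 1 <;> (ext i j; fin_cases i <;> fin_cases j <;> simp)

theorem m5_BtAt :
    ((iotaB tM * iotaA tM : symplecticGroup (Fin 2) F) :
      Matrix (Fin 2 ⊕ Fin 2) (Fin 2 ⊕ Fin 2) F) =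
      fromBlocks !![0, 1; 0, 0] !![0, 0; -1, 0] !![0, 0; 1, 0] !![0, 1; 0, 0] := by
  simp only [Submonoid.coe_mul, m5_A_t, m5_B_t, fromBlocks_multiply]
  congr 1 <;> (ext i j; fin_cases i <;> fin_cases j <;> simp)

theorem mat_w6 :
    (iotaA tM : symplecticGroup (Fin 2) F) * iotaB tM * iotaA tM * iotaB tM =
      iotaB tM * iotaA tM * iotaB tM * iotaA tM := by
  have e1 : (iotaA tM : symplecticGroup (Fin 2) F) * iotaB tM * iotaA tM * iotaB tM =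
      (iotaA tM * iotaB tM) * (iotaA tM * iotaB tM) := by group
  have e2 : (iotaB tM : symplecticGroup (Fin 2) F) * iotaA tM * iotaB tM * iotaA tM =
      (iotaB tM * iotaA tM) * (iotaB tM * iotaA tM) := by group
  rw [e1, e2]
  apply Subtype.ext
  show ((iotaA tM * iotaB tM : symplecticGroup (Fin 2) F) :
      Matrix (Fin 2 ⊕ Fin 2) (Fin 2 ⊕ Fin 2) F) *
      ((iotaA tM * iotaB tM : symplecticGroup (Fin 2) F) :
      Matrix (Fin 2 ⊕ Fin 2) (Fin 2 ⊕ Fin 2) F) =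
      ((iotaB tM * iotaA tM : symplecticGroup (Fin 2) F) :
      Matrix (Fin 2 ⊕ Fin 2) (Fin 2 ⊕ Fin 2) F) *
      ((iotaB tM * iotaA tM : symplecticGroup (Fin 2) F) :
      Matrix (Fin 2 ⊕ Fin 2) (Fin 2 ⊕ Fin 2) F)
  rw [m5_AtBt, m5_BtAt, fromBlocks_multiply, fromBlocks_multiply]
  congr 1 <;> (ext i j; fin_cases i <;> fin_cases j <;> simp)

theorem mat_w7 (c : F) :
    ((iotaB tM)⁻¹ * iotaA tM * iotaB tM : symplecticGroup (Fin 2) F) * iotaA (xM c) *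
      ((iotaB tM)⁻¹ * iotaA tM * iotaB tM)⁻¹ = iotaA (xM (-c)) := by
  rw [mul_inv_eq_iff_eq_mul]
  apply Subtype.ext
  simp only [Submonoid.coe_mul, m5_A_t, m5_B_t, m5_B_ti, m5_A_x, fromBlocks_multiply]
  congr 1 <;> (ext i j; fin_cases i <;> fin_cases j <;> simp)

theorem mat_w8 (c : F) :
    ((iotaA tM)⁻¹ * iotaB tM * iotaA tM : symplecticGroup (Fin 2) F) * iotaB (xM c) *
      ((iotaA tM)⁻¹ * iotaB tM * iotaA tM)⁻¹ = iotaB (xM c) := by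
  rw [mul_inv_eq_iff_eq_mul]
  apply Subtype.ext
  simp only [Submonoid.coe_mul, m5_A_t, m5_B_t, m5_A_ti, m5_B_x, fromBlocks_multiply]
  congr 1 <;> (ext i j; fin_cases i <;> fin_cases j <;> simp)

/-- `ta x_β(d) ta⁻¹ = sg(d, 0, 0)` (the root element of `2α+β`) -/
theorem m5_x2ab (d : F) :
    (iotaA tM : symplecticGroup (Fin 2) F) * iotaB (xM d) * (iotaA tM)⁻¹ = m5_sg d 0 0 := by
  have h := m5_sg_swap (0 : F) 0 d
  rw [neg_zero, ← m5_xb_eq] at h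
  exact h

/-- `tb x_α(c) tb⁻¹ = sg(0, -c, 0)` (the root element of `α+β`) -/
theorem m5_xab (c : F) :
    (iotaB tM : symplecticGroup (Fin 2) F) * iotaA (xM c) * (iotaB tM)⁻¹ = m5_sg 0 (-c) 0 := by
  rw [mul_inv_eq_iff_eq_mul]
  apply Subtype.ext
  simp only [Submonoid.coe_mul, m5_B_t, m5_A_x, m5_sg_coe, fromBlocks_multiply]
  congr 1 <;> (ext i j; fin_cases i <;> fin_cases j <;> simp)

theorem m5_sg_comm (p q r p' q' r' : F) : Commute (m5_sg p q r) (m5_sg p' q' r') := by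
  show m5_sg p q r * m5_sg p' q' r' = m5_sg p' q' r' * m5_sg p q r
  rw [m5_sg_mul, m5_sg_mul, add_comm p, add_comm q, add_comm r]

theorem mat_w9 (b d : F) :
    Commute (iotaB (xM b) : symplecticGroup (Fin 2) F)
      (iotaA tM * iotaB (xM d) * (iotaA tM)⁻¹) := by
  rw [m5_x2ab]
  have : (iotaB (xM b) : symplecticGroup (Fin 2) F) = m5_sg 0 0 b := m5_xb_eq b
  rw [this]
  exact m5_sg_comm _ _ _ _ _ _

theorem mat_w10 (a d : F) :
    Commute (iotaA (xM a) : symplecticGroup (Fin 2) F)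
      (iotaA tM * iotaB (xM d) * (iotaA tM)⁻¹) := by
  rw [m5_x2ab]
  show m5_xa a * m5_sg d 0 0 = m5_sg d 0 0 * m5_xa a
  rw [m5_xa_sg]
  congr 2 <;> ring

theorem m5_A_x_inv (c : F) : ((iotaA (xM c))⁻¹ : symplecticGroup (Fin 2) F) = iotaA (xM (-c)) := by
  rw [← map_inv, b_xM_neg]

theorem m5_B_x_inv (c : F) : ((iotaB (xM c))⁻¹ : symplecticGroup (Fin 2) F) = iotaB (xM (-c)) := by
  rw [← map_inv, b_xM_neg]

theorem mat_w11 :
    (iotaA (xM 1) : symplecticGroup (Fin 2) F) * (iotaB tM * iotaA (xM 1) * (iotaB tM)⁻¹) *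
      (iotaA (xM 1))⁻¹ * (iotaB tM * iotaA (xM 1) * (iotaB tM)⁻¹)⁻¹ =
      iotaA tM * iotaB (xM (-2)) * (iotaA tM)⁻¹ := by
  rw [m5_xab, m5_x2ab, m5_sg_inv]
  have h : (iotaA (xM 1) : symplecticGroup (Fin 2) F) * m5_sg 0 (-1) 0 =
      m5_sg (0 + 2 * 1 * (-1) + 1 ^ 2 * 0) (-1 + 1 * 0) 0 * iotaA (xM 1) := m5_xa_sg 1 0 (-1) 0
  rw [h, mul_assoc (m5_sg _ _ _), mul_inv_cancel, mul_one, m5_sg_mul]
  congr 1 <;> ring

theorem mat_w12 :
    (iotaA (xM 1) : symplecticGroup (Fin 2) F) * iotaB (xM 1) * (iotaA (xM 1))⁻¹ *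
      (iotaB (xM 1))⁻¹ =
      (iotaB tM * iotaA (xM (-1)) * (iotaB tM)⁻¹) * (iotaA tM * iotaB (xM 1) * (iotaA tM)⁻¹) := by
  rw [m5_xab, m5_x2ab]
  have e : (iotaB (xM 1) : symplecticGroup (Fin 2) F) = m5_sg 0 0 1 := m5_xb_eq 1
  rw [e, m5_sg_inv]
  have h : (iotaA (xM 1) : symplecticGroup (Fin 2) F) * m5_sg 0 0 1 =
      m5_sg (0 + 2 * 1 * 0 + 1 ^ 2 * 1) (0 + 1 * 1) 1 * iotaA (xM 1) := m5_xa_sg 1 0 0 1
  rw [h, mul_assoc (m5_sg _ _ _), mul_inv_cancel, mul_one, m5_sg_mul, m5_sg_mul]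
  congr 1 <;> ring

/-- generation (any field) -/
theorem mat_gen :
    (iotaA (F := F)).range ⊔ (iotaB (F := F)).range = ⊤ :=
  m5_gen _ (fun A => (le_sup_left : (iotaA (F := F)).range ≤ _) ⟨A, rfl⟩)
    (fun A => (le_sup_right : (iotaB (F := F)).range ≤ _) ⟨A, rfl⟩)

end mat

end Cfsg.Agent.Sp4Pres
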