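import Cfsg.Agent.Sp4Pres.Words
import Cfsg.Agent.Sp4Pres.Mat
import Cfsg.Agent.S0245
import Cfsg.Agent.S0246

/-!
# Presentations of `Sp₄(F)`: the matrix side (piece TSide)
-/

set_option autoImplicit false

namespace Cfsg.Agent.Sp4Pres

open Cfsg.Agent.SL2Pres Polynomial Matrix

section tside

variable {F : Type*} [Field F]

/-- the images of the six generators -/
def gens6 (ζ : Fˣ) : Fin 6 → symplecticGroup (Fin 2) F :=
  ![iotaA (xM 1), iotaA tM, iotaA (hM ζ), iotaB (xM 1), iotaB tM, iotaB (hM ζ)]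

/-- the homomorphism from the free group -/
def lift6 (ζ : Fˣ) : FreeGroup (Fin 6) →* symplecticGroup (Fin 2) F := FreeGroup.lift (gens6 ζ)

theorem lift6_UA (ζ : Fˣ) : lift6 ζ UA = iotaA (xM (1 : F)) := by simp [lift6, UA, gens6]
theorem lift6_TA (ζ : Fˣ) : lift6 ζ TA = (iotaA tM : symplecticGroup (Fin 2) F) := by
  simp [lift6, TA, gens6]
theorem lift6_HA (ζ : Fˣ) : lift6 ζ HA = iotaA (hM ζ) := by simp [lift6, HA, gens6]
theorem lift6_UB (ζ : Fˣ) : lift6 ζ UB = iotaB (xM (1 : F)) := by simp [lift6, UB, gens6]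
theorem lift6_TB (ζ : Fˣ) : lift6 ζ TB = (iotaB tM : symplecticGroup (Fin 2) F) := by
  simp [lift6, TB, gens6]
theorem lift6_HB (ζ : Fˣ) : lift6 ζ HB = iotaB (hM ζ) := by simp [lift6, HB, gens6]

theorem lift6_mapA (ζ : Fˣ) : (lift6 (F := F) ζ).comp mapA = iotaA.comp (liftM ζ) := by
  apply FreeGroup.ext_hom
  intro a
  fin_cases a
  · show lift6 ζ (mapA wU) = iotaA (liftM ζ wU)
    rw [mapA_U, lift6_UA, liftM_U]
  · show lift6 ζ (mapA wT) = iotaA (liftM ζ wT)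
    rw [mapA_T, lift6_TA, liftM_T]
  · show lift6 ζ (mapA wH) = iotaA (liftM ζ wH)
    rw [mapA_H, lift6_HA, liftM_H]

theorem lift6_mapB (ζ : Fˣ) : (lift6 (F := F) ζ).comp mapB = iotaB.comp (liftM ζ) := by
  apply FreeGroup.ext_hom
  intro a
  fin_cases a
  · show lift6 ζ (mapB wU) = iotaB (liftM ζ wU)
    rw [mapB_U, lift6_UB, liftM_U]
  · show lift6 ζ (mapB wT) = iotaB (liftM ζ wT)
    rw [mapB_T, lift6_TB, liftM_T]
  · show lift6 ζ (mapB wH) = iotaB (liftM ζ wH)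
    rw [mapB_H, lift6_HB, liftM_H]

theorem lift6_mapA_apply (ζ : Fˣ) (w : FreeGroup (Fin 3)) :
    lift6 (F := F) ζ (mapA w) = iotaA (liftM ζ w) :=
  DFunLike.congr_fun (lift6_mapA ζ) w

theorem lift6_mapB_apply (ζ : Fˣ) (w : FreeGroup (Fin 3)) :
    lift6 (F := F) ζ (mapB w) = iotaB (liftM ζ w) :=
  DFunLike.congr_fun (lift6_mapB ζ) w

/-! ### the cross relators hold in `Sp₄(F)` -/

theorem lift6_x1 (ζ : Fˣ) : lift6 (F := F) ζ x1 = 1 := by
  rw [x1_iff, lift6_HA, lift6_HB]; exact mat_w1 ζ ζ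

theorem lift6_x2 {p : ℕ} [Fact p.Prime] [Algebra (ZMod p) F] (ζ : Fˣ) (Pinv : (ZMod p)[X])
    (hPinv : aeval ((ζ : F) ^ 2) Pinv = (ζ : F)⁻¹) : lift6 (F := F) ζ (x2 Pinv) = 1 := by
  rw [x2_iff, lift6_HA, lift6_HB, lift6_UA, mat_w2, ← map_polyProd, polyProdM, hPinv, mul_one]

theorem lift6_x3 (ζ : Fˣ) : lift6 (F := F) ζ x3 = 1 := by
  rw [x3_iff, lift6_HA, lift6_HB, lift6_UB, mat_w3, ← map_inv, ← map_mul, ← map_mul]
  congr 1
  have := hM_conj (ζ⁻¹ : Fˣ) (1 : F)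
  rw [hM_inv, inv_inv, Units.val_inv_eq_inv_val] at this
  exact this.symm

theorem lift6_x4 (ζ : Fˣ) : lift6 (F := F) ζ x4 = 1 := by
  rw [x4_iff, lift6_HA, lift6_HB, lift6_TA]; exact mat_w4 ζ

theorem lift6_x5 (ζ : Fˣ) : lift6 (F := F) ζ x5 = 1 := by
  rw [x5_iff, lift6_HA, lift6_HB, lift6_TB]; exact mat_w5 ζ

theorem lift6_x6 (ζ : Fˣ) : lift6 (F := F) ζ x6 = 1 := by
  rw [x6_iff, lift6_TA, lift6_TB]; exact mat_w6

theorem lift6_x7 (ζ : Fˣ) : lift6 (F := F) ζ x7 = 1 := by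
  rw [x7_iff, lift6_TA, lift6_TB, lift6_UA, mat_w7, b_xM_neg, map_inv]

theorem lift6_x8 (ζ : Fˣ) : lift6 (F := F) ζ x8 = 1 := by
  rw [x8_iff, lift6_TA, lift6_TB, lift6_UB, mat_w8]

theorem lift6_x9 (ζ : Fˣ) : lift6 (F := F) ζ x9 = 1 := by
  rw [x9_iff, lift6_TA, lift6_UB]; exact mat_w9 1 1

theorem lift6_x10 (ζ : Fˣ) : lift6 (F := F) ζ x10 = 1 := by
  rw [x10_iff, lift6_TA, lift6_UB, lift6_UA]; exact mat_w10 1 1

theorem lift6_x11 (ζ : Fˣ) : lift6 (F := F) ζ x11 = 1 := by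
  rw [x11_iff, lift6_TA, lift6_TB, lift6_UA, lift6_UB, mat_w11]
  congr 2
  rw [← map_pow, ← map_inv]
  congr 1
  rw [pow_two, ← xM_add, ← b_xM_neg]
  congr 1
  norm_num

theorem lift6_x12 (ζ : Fˣ) : lift6 (F := F) ζ x12 = 1 := by
  rw [x12_iff, lift6_TA, lift6_TB, lift6_UA, lift6_UB, mat_w12, b_xM_neg, map_inv]

theorem lift6_crossRels {p : ℕ} [Fact p.Prime] [Algebra (ZMod p) F] (ζ : Fˣ) (Pinv : (ZMod p)[X])
    (hPinv : aeval ((ζ : F) ^ 2) Pinv = (ζ : F)⁻¹) :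
    ∀ r ∈ crossRels Pinv, lift6 (F := F) ζ r = 1 := by
  intro r hr
  simp only [crossRels, List.mem_cons, List.not_mem_nil, or_false] at hr
  rcases hr with rfl | rfl | rfl | rfl | rfl | rfl | rfl | rfl | rfl | rfl | rfl | rfl
  · exact lift6_x1 ζ
  · exact lift6_x2 ζ Pinv hPinv
  · exact lift6_x3 ζ
  · exact lift6_x4 ζ
  · exact lift6_x5 ζ
  · exact lift6_x6 ζ
  · exact lift6_x7 ζ
  · exact lift6_x8 ζ
  · exact lift6_x9 ζ
  · exact lift6_x10 ζ
  · exact lift6_x11 ζ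
  · exact lift6_x12 ζ

/-- the six matrices generate `Sp₄(F)` -/
theorem lift6_surjective [Fintype F] {p : ℕ} [Fact p.Prime] [Algebra (ZMod p) F] (ζ : Fˣ)
    (hζ : ∀ a : Fˣ, a ∈ Subgroup.zpowers ζ) : Function.Surjective (lift6 (F := F) ζ) := by
  rw [← MonoidHom.range_eq_top, eq_top_iff, ← mat_gen (F := F), sup_le_iff]
  constructor
  · rintro _ ⟨A, rfl⟩
    obtain ⟨w, rfl⟩ := liftM_surjective (p := p) ζ hζ A
    exact ⟨mapA w, lift6_mapA_apply ζ w⟩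
  · rintro _ ⟨A, rfl⟩
    obtain ⟨w, rfl⟩ := liftM_surjective (p := p) ζ hζ A
    exact ⟨mapB w, lift6_mapB_apply ζ w⟩

/-- `ta² = -1` is central -/
theorem iotaA_tM_sq_mem_center :
    (iotaA tM : symplecticGroup (Fin 2) F) ^ 2 ∈
      Subgroup.center (symplecticGroup (Fin 2) F) := by
  have : (iotaA tM : symplecticGroup (Fin 2) F) ^ 2 = Cfsg.Agent.S0246.negOne 2 F := by
    rw [← map_pow, tM_sq]
    apply Subtype.ext
    rw [m5_A_h]
    show _ = (-1 : Matrix (Fin 2 ⊕ Fin 2) (Fin 2 ⊕ Fin 2) F)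
    ext i j
    rcases i with i | i <;> rcases j with j | j <;> fin_cases i <;> fin_cases j <;>
      simp
  rw [this]
  exact Cfsg.Agent.S0246.negOne_mem_center 2 F

end tside

/-! ### cardinalities -/

section card

variable {F : Type*} [Field F] [Fintype F]

/-- the Bruhat polynomial of type `B₂` -/
def ts_poly (q : ℕ) : ℕ := 1 + 2 * q + 2 * q ^ 2 + 2 * q ^ 3 + q ^ 4

theorem card_Sp4 : Nat.card (symplecticGroup (Fin 2) F) =
    Fintype.card F ^ 4 * ((Fintype.card F - 1) * (Fintype.card F - 1)) *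
      ts_poly (Fintype.card F) := by
  have h := Cfsg.Agent.S0245.result (F := F) rfl 2
  rw [h]
  have hq : 2 ≤ Fintype.card F := Fintype.one_lt_card
  obtain ⟨r, hr⟩ : ∃ r, Fintype.card F = r + 1 := ⟨Fintype.card F - 1, by omega⟩
  rw [hr]
  simp only [Finset.prod_range_succ, Finset.prod_range_zero, one_mul, ts_poly]
  have e1 : (r + 1) ^ (2 * (0 + 1)) - 1 = r * (r + 2) := by
    apply Nat.sub_eq_of_eq_add; ring
  have e2 : (r + 1) ^ (2 * (1 + 1)) - 1 = r * (r + 2) * (r ^ 2 + 2 * r + 2) := by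
    apply Nat.sub_eq_of_eq_add; ring
  rw [e1, e2, Nat.add_sub_cancel]
  ring

theorem card_center_Sp4 :
    Nat.card (Subgroup.center (symplecticGroup (Fin 2) F)) = Nat.gcd 2 (Fintype.card F - 1) :=
  Cfsg.Agent.S0246.result (F := F) rfl 2 (by norm_num)

theorem card_PSp4_mul :
    Nat.card (Cfsg.PSp 2 F) * Nat.gcd 2 (Fintype.card F - 1) =
      Nat.card (symplecticGroup (Fin 2) F) := by
  rw [← card_center_Sp4]
  exact (Subgroup.card_eq_card_quotient_mul_card_subgroup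
    (Subgroup.center (symplecticGroup (Fin 2) F))).symm

theorem card_PSp4_odd (h2 : (2 : F) ≠ 0) :
    Nat.card (Cfsg.PSp 2 F) =
      Fintype.card F ^ 4 * ((Fintype.card F - 1) / 2 * (Fintype.card F - 1)) *
        ts_poly (Fintype.card F) := by
  have h := card_PSp4_mul (F := F)
  rw [card_Sp4] at h
  have hodd : Fintype.card F % 2 = 1 :=
    FiniteField.odd_card_of_char_ne_two (fun hc => h2 (fd_two_eq_zero_iff.mpr hc))
  obtain ⟨j, hj⟩ : ∃ j, Fintype.card F = 2 * j + 1 := ⟨Fintype.card F / 2, by omega⟩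
  rw [hj] at h ⊢
  have e1 : 2 * j + 1 - 1 = 2 * j := by omega
  rw [e1] at h ⊢
  have hg : Nat.gcd 2 (2 * j) = 2 := Nat.gcd_eq_left (Dvd.intro _ rfl)
  rw [hg] at h
  have e2 : 2 * j / 2 = j := by omega
  rw [e2]
  apply Nat.eq_of_mul_eq_mul_right (by norm_num : 0 < 2)
  rw [h]; ring

theorem card_PSp4_even (h2 : (2 : F) = 0) :
    Nat.card (Cfsg.PSp 2 F) = Nat.card (symplecticGroup (Fin 2) F) := by
  have h := card_PSp4_mul (F := F)
  obtain ⟨r, hr⟩ := fd_even_card h2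
  have hq : 2 ≤ Fintype.card F := Fintype.one_lt_card
  have hg : Nat.gcd 2 (Fintype.card F - 1) = 1 := by
    have hodd : ¬ 2 ∣ Fintype.card F - 1 := by omega
    exact (Nat.Prime.coprime_iff_not_dvd Nat.prime_two).mpr hodd
  rw [hg, mul_one] at h
  exact h

end card

end Cfsg.Agent.Sp4Pres
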