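import Cfsg.Agent.Sp4Pres.Hyp
import Cfsg.Agent.SL2Pres.A2a

/-!
# Presentations of `Sp₄(F)`: the torus `{ha^i hb^j}` (piece Torus)
-/

set_option autoImplicit false

namespace Cfsg.Agent.Sp4Pres

open Cfsg.Agent.SL2Pres

section abstract

variable {G : Type*} [Group G] {F : Type*} [Field F] [Fintype F]
  {ζ : Fˣ} {xa xb : F → G} {ta ha tb hb : G} {Ka Kb : ℕ}

omit [Fintype F] in
/-- conjugation by a power, in the `(h^i)⁻¹` form -/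
theorem tor_conj_zpow (x : F → G) (h : G) (g : Fˣ)
    (hconj : ∀ a, h * x a * h⁻¹ = x ((g : F) * a)) (i : ℤ) (a : F) :
    h ^ i * x a * (h ^ i)⁻¹ = x (((g ^ i : Fˣ) : F) * a) := by
  rw [← zpow_neg]
  exact x_conj_zpow x h g hconj i a

omit [Fintype F] in
theorem tor_hcomm_zpow (hyp : Sp4Hyp ζ xa xb ta ha tb hb Ka Kb) (i j : ℤ) :
    Commute (ha ^ i) (hb ^ j) :=
  ((show Commute ha hb from hyp.hcomm).zpow_zpow i j)

omit [Fintype F] in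
theorem torus_conj_xa (hyp : Sp4Hyp ζ xa xb ta ha tb hb Ka Kb) (i j : ℤ) (c : F) :
    (ha ^ i * hb ^ j) * xa c * (ha ^ i * hb ^ j)⁻¹ = xa (((ζ ^ (2 * i - j) : Fˣ) : F) * c) := by
  have h1 : ∀ a, ha * xa a * ha⁻¹ = xa (((ζ ^ 2 : Fˣ) : F) * a) := by
    intro a; rw [hyp.ha_xa, Units.val_pow_eq_pow_val]
  have h2 : ∀ a, hb * xa a * hb⁻¹ = xa (((ζ⁻¹ : Fˣ) : F) * a) := by
    intro a; rw [hyp.hb_xa, Units.val_inv_eq_inv_val]
  have e : (ha ^ i * hb ^ j) * xa c * (ha ^ i * hb ^ j)⁻¹ =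
      ha ^ i * (hb ^ j * xa c * (hb ^ j)⁻¹) * (ha ^ i)⁻¹ := by group
  rw [e, tor_conj_zpow xa hb _ h2, tor_conj_zpow xa ha _ h1, ← mul_assoc, ← Units.val_mul]
  congr 3
  rw [← zpow_natCast ζ 2, ← zpow_mul, inv_zpow', ← zpow_add]
  congr 1

omit [Fintype F] in
theorem torus_conj_xb (hyp : Sp4Hyp ζ xa xb ta ha tb hb Ka Kb) (i j : ℤ) (c : F) :
    (ha ^ i * hb ^ j) * xb c * (ha ^ i * hb ^ j)⁻¹ =
      xb (((ζ ^ (2 * j - 2 * i) : Fˣ) : F) * c) := by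
  have h1 : ∀ a, hb * xb a * hb⁻¹ = xb (((ζ ^ 2 : Fˣ) : F) * a) := by
    intro a; rw [hyp.hb_xb, Units.val_pow_eq_pow_val]
  have h2 : ∀ a, ha * xb a * ha⁻¹ = xb ((((ζ⁻¹) ^ 2 : Fˣ) : F) * a) := by
    intro a; rw [hyp.ha_xb, Units.val_pow_eq_pow_val, Units.val_inv_eq_inv_val]
  have e : (ha ^ i * hb ^ j) * xb c * (ha ^ i * hb ^ j)⁻¹ =
      ha ^ i * (hb ^ j * xb c * (hb ^ j)⁻¹) * (ha ^ i)⁻¹ := by group
  rw [e, tor_conj_zpow xb hb _ h1, tor_conj_zpow xb ha _ h2, ← mul_assoc, ← Units.val_mul]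
  congr 3
  rw [← zpow_natCast ζ 2, ← zpow_natCast ζ⁻¹ 2, ← zpow_mul, ← zpow_mul, inv_zpow', ← zpow_add]
  congr 1
  push_cast
  ring

omit [Fintype F] in
theorem ta_torus (hyp : Sp4Hyp ζ xa xb ta ha tb hb Ka Kb) (i j : ℤ) :
    ta * (ha ^ i * hb ^ j) * ta⁻¹ = ha ^ (j - i) * hb ^ j := by
  have e : ta * (ha ^ i * hb ^ j) * ta⁻¹ = (ta * ha * ta⁻¹) ^ i * (ta * hb * ta⁻¹) ^ j := by
    rw [conj_zpow, conj_zpow]; group
  have hc : Commute ha hb := hyp.hcomm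
  rw [e, hyp.ta_ha, hyp.ta_hb, hc.mul_zpow, inv_zpow', ← mul_assoc, ← zpow_add]
  congr 2
  ring

omit [Fintype F] in
theorem tb_torus (hyp : Sp4Hyp ζ xa xb ta ha tb hb Ka Kb) (i j : ℤ) :
    tb * (ha ^ i * hb ^ j) * tb⁻¹ = ha ^ i * hb ^ (2 * i - j) := by
  have e : tb * (ha ^ i * hb ^ j) * tb⁻¹ = (tb * ha * tb⁻¹) ^ i * (tb * hb * tb⁻¹) ^ j := by
    rw [conj_zpow, conj_zpow]; group
  have hc : Commute ha hb := hyp.hcomm
  have hc2 : Commute ha (hb ^ 2) := hc.pow_right 2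
  rw [e, hyp.tb_ha, hyp.tb_hb, hc2.mul_zpow, inv_zpow', mul_assoc, ← zpow_natCast hb 2, ← zpow_mul,
    ← zpow_add]
  congr 2

omit [Fintype F] in
theorem ta_inv_torus (hyp : Sp4Hyp ζ xa xb ta ha tb hb Ka Kb) (i j : ℤ) :
    ta⁻¹ * (ha ^ i * hb ^ j) * ta = ha ^ (j - i) * hb ^ j := by
  have h := ta_torus hyp (j - i) j
  rw [show j - (j - i) = i by ring] at h
  rw [← h]; group

omit [Fintype F] in
theorem tb_inv_torus (hyp : Sp4Hyp ζ xa xb ta ha tb hb Ka Kb) (i j : ℤ) :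
    tb⁻¹ * (ha ^ i * hb ^ j) * tb = ha ^ i * hb ^ (2 * i - j) := by
  have h := tb_torus hyp i (2 * i - j)
  rw [show 2 * i - (2 * i - j) = j by ring] at h
  rw [← h]; group

omit [Fintype F] in
theorem ta_sq_mem_torus (hyp : Sp4Hyp ζ xa xb ta ha tb hb Ka Kb) : ta ^ 2 ∈ torus ha hb := by
  obtain ⟨k, hk⟩ := hyp.ta_sq
  exact ⟨k, 0, by rw [hk, zpow_natCast, zpow_zero, mul_one]⟩

omit [Fintype F] in
theorem tb_sq_mem_torus (hyp : Sp4Hyp ζ xa xb ta ha tb hb Ka Kb) : tb ^ 2 ∈ torus ha hb := by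
  obtain ⟨k, hk⟩ := hyp.tb_sq
  exact ⟨0, k, by rw [hk, zpow_natCast, zpow_zero, one_mul]⟩

omit [Fintype F] in
theorem tor_mul (hyp : Sp4Hyp ζ xa xb ta ha tb hb Ka Kb) (i j i' j' : ℤ) :
    (ha ^ i * hb ^ j) * (ha ^ i' * hb ^ j') = ha ^ (i + i') * hb ^ (j + j') := by
  have hc := tor_hcomm_zpow hyp i' j
  rw [zpow_add, zpow_add, mul_assoc, ← mul_assoc (hb ^ j), ← hc.eq]
  group

omit [Fintype F] in
theorem tor_inv (hyp : Sp4Hyp ζ xa xb ta ha tb hb Ka Kb) (i j : ℤ) :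
    (ha ^ i * hb ^ j)⁻¹ = ha ^ (-i) * hb ^ (-j) := by
  have hc := tor_hcomm_zpow hyp (-i) (-j)
  rw [mul_inv_rev, ← zpow_neg, ← zpow_neg, hc.eq]

/-- the torus as a subgroup -/
def torusSub (hyp : Sp4Hyp ζ xa xb ta ha tb hb Ka Kb) : Subgroup G where
  carrier := torus ha hb
  mul_mem' := by
    rintro _ _ ⟨i, j, rfl⟩ ⟨i', j', rfl⟩
    exact ⟨i + i', j + j', tor_mul hyp i j i' j'⟩
  one_mem' := ⟨0, 0, by simp⟩
  inv_mem' := by
    rintro _ ⟨i, j, rfl⟩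
    exact ⟨-i, -j, tor_inv hyp i j⟩

omit [Fintype F] in
theorem mem_torusSub (hyp : Sp4Hyp ζ xa xb ta ha tb hb Ka Kb) (g : G) :
    g ∈ torusSub hyp ↔ ∃ i j : ℤ, g = ha ^ i * hb ^ j := Iff.rfl

omit [Fintype F] in
theorem coe_torusSub (hyp : Sp4Hyp ζ xa xb ta ha tb hb Ka Kb) :
    (torusSub hyp : Set G) = torus ha hb := rfl

omit [Fintype F] in
theorem torus_finite (hyp : Sp4Hyp ζ xa xb ta ha tb hb Ka Kb) :
    (torus ha hb).Finite ∧ (torus ha hb).ncard ≤ Ka * Kb := by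
  have hsub : torus ha hb ⊆
      Set.range (fun p : Fin Ka × Fin Kb => ha ^ (p.1 : ℕ) * hb ^ (p.2 : ℕ)) := by
    rintro _ ⟨i, j, rfl⟩
    have hKa : (0 : ℤ) < Ka := by exact_mod_cast hyp.Ka_pos
    have hKb : (0 : ℤ) < Kb := by exact_mod_cast hyp.Kb_pos
    have e1 : ha ^ i = ha ^ (i % (Ka : ℤ)) :=
      zpow_eq_zpow_emod i (by rw [zpow_natCast]; exact hyp.ha_pow)
    have e2 : hb ^ j = hb ^ (j % (Kb : ℤ)) :=
      zpow_eq_zpow_emod j (by rw [zpow_natCast]; exact hyp.hb_pow)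
    have l1 := Int.emod_nonneg i hKa.ne'
    have l2 := Int.emod_lt_of_pos i hKa
    have l3 := Int.emod_nonneg j hKb.ne'
    have l4 := Int.emod_lt_of_pos j hKb
    refine ⟨(⟨(i % (Ka : ℤ)).toNat, by omega⟩, ⟨(j % (Kb : ℤ)).toNat, by omega⟩), ?_⟩
    simp only
    rw [e1, e2, ← zpow_natCast ha, ← zpow_natCast hb, Int.toNat_of_nonneg l1,
      Int.toNat_of_nonneg l3]
  have hfin : (Set.range (fun p : Fin Ka × Fin Kb => ha ^ (p.1 : ℕ) * hb ^ (p.2 : ℕ))).Finite :=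
    Set.finite_range _
  refine ⟨hfin.subset hsub, ?_⟩
  calc (torus ha hb).ncard
      ≤ (Set.range (fun p : Fin Ka × Fin Kb => ha ^ (p.1 : ℕ) * hb ^ (p.2 : ℕ))).ncard :=
        Set.ncard_le_ncard hsub hfin
    _ ≤ Nat.card (Fin Ka × Fin Kb) := by
        rw [← Set.image_univ]
        calc _ ≤ (Set.univ : Set (Fin Ka × Fin Kb)).ncard := Set.ncard_image_le Set.finite_univ
          _ = _ := Set.ncard_univ _
    _ = Ka * Kb := by rw [Nat.card_prod, Nat.card_fin, Nat.card_fin]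

end abstract

end Cfsg.Agent.Sp4Pres
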