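import Cfsg.Agent.SL2Pres.C4

/-!
# Presentations of `Sp₄(F)`: the relator words in `FreeGroup (Fin 6)` (piece Words)

Generators `0 : U_α`, `1 : T_α`, `2 : H_α`, `3 : U_β`, `4 : T_β`, `5 : H_β`.
-/

set_option autoImplicit false

namespace Cfsg.Agent.Sp4Pres

open Cfsg.Agent.SL2Pres Polynomial

/-- the embedding of the `α`-generators -/
def incA : Fin 3 → Fin 6 := fun i => ⟨i.1, by omega⟩

/-- the embedding of the `β`-generators -/
def incB : Fin 3 → Fin 6 := fun i => ⟨i.1 + 3, by omega⟩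

/-- the words of the `α`-triple -/
def mapA : FreeGroup (Fin 3) →* FreeGroup (Fin 6) := FreeGroup.map incA

/-- the words of the `β`-triple -/
def mapB : FreeGroup (Fin 3) →* FreeGroup (Fin 6) := FreeGroup.map incB

def UA : FreeGroup (Fin 6) := FreeGroup.of 0
def TA : FreeGroup (Fin 6) := FreeGroup.of 1
def HA : FreeGroup (Fin 6) := FreeGroup.of 2
def UB : FreeGroup (Fin 6) := FreeGroup.of 3
def TB : FreeGroup (Fin 6) := FreeGroup.of 4
def HB : FreeGroup (Fin 6) := FreeGroup.of 5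

theorem mapA_U : mapA wU = UA := by simp [mapA, wU, UA, incA]
theorem mapA_T : mapA wT = TA := by simp [mapA, wT, TA, incA]
theorem mapA_H : mapA wH = HA := by simp [mapA, wH, HA, incA]
theorem mapB_U : mapB wU = UB := by simp [mapB, wU, UB, incB]
theorem mapB_T : mapB wT = TB := by simp [mapB, wT, TB, incB]
theorem mapB_H : mapB wH = HB := by simp [mapB, wH, HB, incB]

/-! ### the twelve cross relators -/

def x1 : FreeGroup (Fin 6) := HA * HB * (HB * HA)⁻¹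
noncomputable def x2 {p : ℕ} (Pinv : (ZMod p)[X]) : FreeGroup (Fin 6) :=
  HB * UA * HB⁻¹ * (polyProd HA UA Pinv)⁻¹
def x3 : FreeGroup (Fin 6) := HA * UB * HA⁻¹ * (HB⁻¹ * UB * HB)⁻¹
def x4 : FreeGroup (Fin 6) := TA * HB * TA⁻¹ * (HA * HB)⁻¹
def x5 : FreeGroup (Fin 6) := TB * HA * TB⁻¹ * (HA * HB ^ 2)⁻¹
def x6 : FreeGroup (Fin 6) := TA * TB * TA * TB * (TB * TA * TB * TA)⁻¹
def x7 : FreeGroup (Fin 6) := (TB⁻¹ * TA * TB) * UA * (TB⁻¹ * TA * TB)⁻¹ * (UA⁻¹)⁻¹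
def x8 : FreeGroup (Fin 6) := (TA⁻¹ * TB * TA) * UB * (TA⁻¹ * TB * TA)⁻¹ * UB⁻¹
def x9 : FreeGroup (Fin 6) := UB * (TA * UB * TA⁻¹) * ((TA * UB * TA⁻¹) * UB)⁻¹
def x10 : FreeGroup (Fin 6) := UA * (TA * UB * TA⁻¹) * ((TA * UB * TA⁻¹) * UA)⁻¹
def x11 : FreeGroup (Fin 6) :=
  UA * (TB * UA * TB⁻¹) * UA⁻¹ * (TB * UA * TB⁻¹)⁻¹ * (TA * (UB ^ 2)⁻¹ * TA⁻¹)⁻¹
def x12 : FreeGroup (Fin 6) :=
  UA * UB * UA⁻¹ * UB⁻¹ * ((TB * UA⁻¹ * TB⁻¹) * (TA * UB * TA⁻¹))⁻¹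

/-- the list of cross relators -/
noncomputable def crossRels {p : ℕ} (Pinv : (ZMod p)[X]) : List (FreeGroup (Fin 6)) :=
  [x1, x2 Pinv, x3, x4, x5, x6, x7, x8, x9, x10, x11, x12]

theorem crossRels_length {p : ℕ} (Pinv : (ZMod p)[X]) : (crossRels Pinv).length = 12 := rfl

section maps

variable {G : Type*} [Group G] (ψ : FreeGroup (Fin 6) →* G)

theorem x1_iff : ψ x1 = 1 ↔ ψ HA * ψ HB = ψ HB * ψ HA := by
  rw [x1, map_mul, map_inv, mul_inv_eq_one, map_mul, map_mul]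

theorem x2_iff {p : ℕ} (Pinv : (ZMod p)[X]) :
    ψ (x2 Pinv) = 1 ↔ ψ HB * ψ UA * (ψ HB)⁻¹ = polyProd (ψ HA) (ψ UA) Pinv := by
  rw [x2, map_mul, map_inv, mul_inv_eq_one]
  simp only [map_mul, map_inv, map_polyProd]

theorem x3_iff : ψ x3 = 1 ↔ ψ HA * ψ UB * (ψ HA)⁻¹ = (ψ HB)⁻¹ * ψ UB * ψ HB := by
  rw [x3, map_mul, map_inv, mul_inv_eq_one]
  simp only [map_mul, map_inv]

theorem x4_iff : ψ x4 = 1 ↔ ψ TA * ψ HB * (ψ TA)⁻¹ = ψ HA * ψ HB := by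
  rw [x4, map_mul, map_inv, mul_inv_eq_one]
  simp only [map_mul, map_inv]

theorem x5_iff : ψ x5 = 1 ↔ ψ TB * ψ HA * (ψ TB)⁻¹ = ψ HA * ψ HB ^ 2 := by
  rw [x5, map_mul, map_inv, mul_inv_eq_one]
  simp only [map_mul, map_inv, map_pow]

theorem x6_iff : ψ x6 = 1 ↔ ψ TA * ψ TB * ψ TA * ψ TB = ψ TB * ψ TA * ψ TB * ψ TA := by
  rw [x6, map_mul, map_inv, mul_inv_eq_one]
  simp only [map_mul]

theorem x7_iff : ψ x7 = 1 ↔
    ((ψ TB)⁻¹ * ψ TA * ψ TB) * ψ UA * ((ψ TB)⁻¹ * ψ TA * ψ TB)⁻¹ = (ψ UA)⁻¹ := by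
  rw [x7, map_mul, map_inv, mul_inv_eq_one]
  simp only [map_mul, map_inv]

theorem x8_iff : ψ x8 = 1 ↔
    ((ψ TA)⁻¹ * ψ TB * ψ TA) * ψ UB * ((ψ TA)⁻¹ * ψ TB * ψ TA)⁻¹ = ψ UB := by
  rw [x8, map_mul, map_inv, mul_inv_eq_one]
  simp only [map_mul, map_inv]

theorem x9_iff : ψ x9 = 1 ↔ Commute (ψ UB) (ψ TA * ψ UB * (ψ TA)⁻¹) := by
  rw [x9, map_mul, map_inv, mul_inv_eq_one]
  simp only [map_mul, map_inv]
  exact Iff.rfl

theorem x10_iff : ψ x10 = 1 ↔ Commute (ψ UA) (ψ TA * ψ UB * (ψ TA)⁻¹) := by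
  rw [x10, map_mul, map_inv, mul_inv_eq_one]
  simp only [map_mul, map_inv]
  exact Iff.rfl

theorem x11_iff : ψ x11 = 1 ↔
    ψ UA * (ψ TB * ψ UA * (ψ TB)⁻¹) * (ψ UA)⁻¹ * (ψ TB * ψ UA * (ψ TB)⁻¹)⁻¹ =
      ψ TA * (ψ UB ^ 2)⁻¹ * (ψ TA)⁻¹ := by
  rw [x11, map_mul, map_inv, mul_inv_eq_one]
  simp only [map_mul, map_inv, map_pow]

theorem x12_iff : ψ x12 = 1 ↔
    ψ UA * ψ UB * (ψ UA)⁻¹ * (ψ UB)⁻¹ =
      (ψ TB * (ψ UA)⁻¹ * (ψ TB)⁻¹) * (ψ TA * ψ UB * (ψ TA)⁻¹) := by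
  rw [x12, map_mul, map_inv, mul_inv_eq_one]
  simp only [map_mul, map_inv]

end maps

/-- generation of a presented group on six generators -/
theorem closure_gens6 (rels : Set (FreeGroup (Fin 6))) :
    Subgroup.closure {PresentedGroup.mk rels UA, PresentedGroup.mk rels TA,
      PresentedGroup.mk rels HA, PresentedGroup.mk rels UB, PresentedGroup.mk rels TB,
      PresentedGroup.mk rels HB} = ⊤ := by
  have h := PresentedGroup.closure_range_of rels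
  have e : Set.range (PresentedGroup.of (rels := rels)) =
      {PresentedGroup.mk rels UA, PresentedGroup.mk rels TA,
      PresentedGroup.mk rels HA, PresentedGroup.mk rels UB, PresentedGroup.mk rels TB,
      PresentedGroup.mk rels HB} := by
    ext g
    constructor
    · rintro ⟨i, rfl⟩
      fin_cases i
      · left; rfl
      · right; left; rfl
      · right; right; left; rfl
      · right; right; right; left; rfl
      · right; right; right; right; left; rfl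
      · right; right; right; right; right; rfl
    · rintro (rfl | rfl | rfl | rfl | rfl | rfl)
      · exact ⟨0, rfl⟩
      · exact ⟨1, rfl⟩
      · exact ⟨2, rfl⟩
      · exact ⟨3, rfl⟩
      · exact ⟨4, rfl⟩
      · exact ⟨5, rfl⟩
  rw [← e]; exact h

/-- from a list of relators to a finite presentation (any generator type) -/
theorem pres_wrap6 {ι : Type*} {T : Type*} [Group T] (L : List (FreeGroup ι)) (n : ℕ)
    (hn : L.length ≤ n)
    (φ0 : FreeGroup ι →* T) (hsurj : Function.Surjective φ0) (hrel : ∀ r ∈ L, φ0 r = 1)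
    (hG : ∀ rels : Set (FreeGroup ι), (∀ r ∈ L, r ∈ rels) →
      Finite (PresentedGroup rels) ∧ Nat.card (PresentedGroup rels) ≤ Nat.card T) :
    ∃ rels : Finset (FreeGroup ι), rels.card ≤ n ∧
      Nonempty (PresentedGroup (↑rels : Set (FreeGroup ι)) ≃* T) := by
  classical
  refine ⟨L.toFinset, (List.toFinset_card_le L).trans hn, ?_⟩
  have hlift : FreeGroup.lift (fun i => φ0 (FreeGroup.of i)) = φ0 := by
    ext i; simp
  have hr : ∀ r ∈ (↑L.toFinset : Set (FreeGroup ι)),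
      FreeGroup.lift (fun i => φ0 (FreeGroup.of i)) r = 1 := by
    intro r hr
    rw [hlift]
    exact hrel r (by simpa using hr)
  obtain ⟨hfin, hcard⟩ := hG (↑L.toFinset) (fun r hr => by simpa using hr)
  refine iso_of_surjective (PresentedGroup.toGroup hr) ?_ hfin hcard
  intro y
  obtain ⟨w, rfl⟩ := hsurj y
  refine ⟨PresentedGroup.mk _ w, ?_⟩
  have : PresentedGroup.toGroup hr (PresentedGroup.mk _ w) =
      FreeGroup.lift (fun i => φ0 (FreeGroup.of i)) w := rfl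
  rw [this, hlift]

/-! ### the rank-one facts from the `SL₂`-relators -/

section sl2facts

variable {G : Type*} [Group G] {F : Type*} [Field F] [Fintype F] {p : ℕ} [Fact p.Prime]
  [Algebra (ZMod p) F]

/-- the conclusion of the rank-one relators, as a proposition -/
def Sl2Facts (ζ : Fˣ) (u t h : G) (M : ℕ) (Pζ Pν : (ZMod p)[X]) : Prop :=
  u ^ p = 1 ∧ (∀ i j : ℤ, Commute (cj h u i) (cj h u j)) ∧
    polyProd h u (minpoly (ZMod p) ((ζ : F) ^ 2)) = 1 ∧ t * h * t⁻¹ = h⁻¹ ∧ t ^ 2 = h ^ M ∧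
    t * u * t⁻¹ = u⁻¹ * t * u⁻¹ ∧
    t * polyProd h u Pζ * t⁻¹ = polyProd h u Pν * h⁻¹ * t * polyProd h u Pν

omit [Fintype F] in
theorem sl2_facts_odd (ψ : FreeGroup (Fin 3) →* G) (ζ : Fˣ) (k : ℕ)
    (LN : List (FreeGroup (Fin 3)))
    (hLN : ((ζ : F) ^ 2 + 1 = 0 ∧ LN = []) ∨ (LN = [rC 1, rC 2, rKodd k])) (M : ℕ)
    (Pζ Pν : (ZMod p)[X])
    (hone : ∀ r ∈ [rU p, rM (minpoly (ZMod p) ((ζ : F) ^ 2)), rTH, rT2 M, rR3, rNu Pζ Pν] ++ LN,
      ψ r = 1) :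
    Sl2Facts ζ (ψ wU) (ψ wT) (ψ wH) M Pζ Pν := by
  have hu := (rU_iff ψ p).mp (hone _ (by simp))
  have hm := hone (rM (minpoly (ZMod p) ((ζ : F) ^ 2))) (by simp)
  have hth := (rTH_iff ψ).mp (hone _ (by simp))
  have ht2 := (rT2_iff ψ M).mp (hone _ (by simp))
  have hr3 := (rR3_iff ψ).mp (hone _ (by simp))
  have hnu := (rNu_iff ψ Pζ Pν).mp (hone _ (by simp))
  have hcomm := comm_of_rels_odd ψ ((ζ : F) ^ 2) k LN hLN
    (fun r hr => hone r (by simp [hr])) hm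
  exact ⟨hu, hcomm, (rM_iff ψ _).mp hm, hth, ht2, hr3, hnu⟩

theorem sl2_facts_even (h2 : (2 : F) = 0) (hp : p = 2) (ψ : FreeGroup (Fin 3) →* G) (ζ : Fˣ)
    (hζ : ∀ a : Fˣ, a ∈ Subgroup.zpowers ζ) (k : ℕ)
    (LN : List (FreeGroup (Fin 3)))
    (hLN : ((ζ : F) ^ 2 + 1 = 0 ∧ LN = []) ∨ (LN = [rKeven k]))
    (Pζ Pν : (ZMod p)[X])
    (hone : ∀ r ∈ [rU p, rBr, rM (minpoly (ZMod p) ((ζ : F) ^ 2)), rNu Pζ Pν] ++ LN,
      ψ r = 1) :
    Sl2Facts ζ (ψ wU) (ψ wT) (ψ wH) 0 Pζ Pν := by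
  have hadj := adjoin_sq_eq_top (p := p) ζ hζ
  have hu := (rU_iff ψ p).mp (hone _ (by simp))
  have hu2 : ψ wU ^ 2 = 1 := by rw [← hp]; exact hu
  have hbr := (rBr_iff ψ).mp (hone _ (by simp))
  have hm := hone (rM (minpoly (ZMod p) ((ζ : F) ^ 2))) (by simp)
  have hnu := (rNu_iff ψ Pζ Pν).mp (hone _ (by simp))
  have hcomm := comm_of_rels_even ψ ((ζ : F) ^ 2) k LN hLN
    (fun r hr => hone r (by simp [hr])) hm hu2
  obtain ⟨x, hadd, hx1, hconj⟩ := exists_hom ((ζ : F) ^ 2) hadj _ _ hu hcomm ((rM_iff ψ _).mp hm)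
  have hinv : ∀ a : F, x a ^ 2 = 1 := by
    intro a
    rw [← x_nsmul x hadd, nsmul_eq_mul]
    have : ((2 : ℕ) : F) * a = 0 := by
      rw [Nat.cast_ofNat, h2, zero_mul]
    rw [this, x_zero x hadd]
  have ea := polyProd_eq x hadd _ _ _ hx1 hconj Pζ
  have eb := polyProd_eq x hadd _ _ _ hx1 hconj Pν
  obtain ⟨ht2, hth, hr3⟩ := even_derived _ _ _ _ _ hu2 hbr (by rw [ea]; exact hinv _)
    (by rw [eb]; exact hinv _) hnu
  exact ⟨hu, hcomm, (rM_iff ψ _).mp hm, hth, by rw [ht2, pow_zero], hr3, hnu⟩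

end sl2facts

end Cfsg.Agent.Sp4Pres
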